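import Mathlib
import Cfsg.Prelude.Def_Solvable
import Cfsg.Agent.Lib.Transfer.Basic

/-!
Groups with two lengths of `p`-regular classes: the configuration in which two primes different
from `p` occur in noncentral `p`-regular elements and the nontrivial length is not a power of `p`.
-/

set_option autoImplicit false
set_option linter.style.haveILetI false
set_option linter.unusedSectionVars false

namespace CfsgLib.TwoPReg

variable {G : Type*} [Group G] [Finite G] {p : ℕ}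

abbrev cz (x : G) : Subgroup G := Subgroup.centralizer ({x} : Set G)

theorem mem_cz {x g : G} : g ∈ cz x ↔ g * x = x * g := Subgroup.mem_centralizer_singleton_iff

theorem self_mem_cz (x : G) : x ∈ cz x := mem_cz.mpr rfl

theorem center_le_cz (x : G) : Subgroup.center G ≤ cz x := fun z hz =>
  mem_cz.mpr (Subgroup.mem_center_iff.mp hz x).symm

theorem cz_eq_top {x : G} : cz x = ⊤ ↔ x ∈ Subgroup.center G := by
  rw [eq_top_iff, Subgroup.mem_center_iff]
  exact ⟨fun h g => mem_cz.mp (h (Subgroup.mem_top g)), fun h g _ => mem_cz.mpr (h g)⟩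

theorem mem_cz_conj {x y g : G} : y ∈ cz (g * x * g⁻¹) ↔ g⁻¹ * y * g ∈ cz x := by
  simp only [mem_cz]
  constructor
  · intro h
    calc g⁻¹ * y * g * x = g⁻¹ * (y * (g * x * g⁻¹)) * g := by group
      _ = g⁻¹ * (g * x * g⁻¹ * y) * g := by rw [h]
      _ = x * (g⁻¹ * y * g) := by group
  · intro h
    calc y * (g * x * g⁻¹) = g * (g⁻¹ * y * g * x) * g⁻¹ := by group
      _ = g * (x * (g⁻¹ * y * g)) * g⁻¹ := by rw [h]
      _ = g * x * g⁻¹ * y := by group

/-- An element of `s`-power order. -/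
def SEl (s : ℕ) (x : G) : Prop := ∃ k, x ^ s ^ k = 1

theorem SEl.one (s : ℕ) : SEl s (1 : G) := ⟨0, one_pow _⟩

theorem SEl.inv {s : ℕ} {x : G} (h : SEl s x) : SEl s x⁻¹ := by
  obtain ⟨k, hk⟩ := h
  exact ⟨k, by rw [inv_pow, hk, inv_one]⟩

theorem SEl.pow {s : ℕ} {x : G} (h : SEl s x) (n : ℕ) : SEl s (x ^ n) := by
  obtain ⟨k, hk⟩ := h
  exact ⟨k, by rw [← pow_mul, mul_comm, pow_mul, hk, one_pow]⟩

theorem SEl.conj {s : ℕ} {x : G} (h : SEl s x) (g : G) : SEl s (g * x * g⁻¹) := by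
  obtain ⟨k, hk⟩ := h
  exact ⟨k, by rw [conj_pow, hk, mul_one, mul_inv_cancel]⟩

theorem SEl.mul {s : ℕ} {x y : G} (hx : SEl s x) (hy : SEl s y) (h : Commute x y) :
    SEl s (x * y) := by
  obtain ⟨a, ha⟩ := hx
  obtain ⟨b, hb⟩ := hy
  refine ⟨a + b, ?_⟩
  rw [h.mul_pow, pow_add, pow_mul, ha, one_pow, one_mul, mul_comm, pow_mul, hb, one_pow]

theorem SEl.orderOf_eq {s : ℕ} (hs : s.Prime) {x : G} (h : SEl s x) : ∃ k, orderOf x = s ^ k := by
  obtain ⟨k, hk⟩ := h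
  obtain ⟨j, -, hj⟩ := (Nat.dvd_prime_pow hs).mp (orderOf_dvd_of_pow_eq_one hk)
  exact ⟨j, hj⟩

theorem SEl.eq_one {s t : ℕ} (hs : s.Prime) (ht : t.Prime) (hst : s ≠ t) {x : G} (h : SEl s x)
    (h' : SEl t x) : x = 1 := by
  obtain ⟨a, ha⟩ := h
  obtain ⟨b, hb⟩ := h'
  have hc := Nat.Coprime.pow a b ((Nat.coprime_primes hs ht).mpr hst)
  have := pow_gcd_eq_one.mpr ⟨ha, hb⟩
  rwa [hc, pow_one] at this

theorem sel_of_mem {s : ℕ} {H : Subgroup G} (hH : IsPGroup s H) {x : G} (hx : x ∈ H) :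
    SEl s x := by
  obtain ⟨k, hk⟩ := hH ⟨x, hx⟩
  exact ⟨k, congrArg Subtype.val hk⟩

theorem isPGroup_zpowers_of_sel {s : ℕ} {x : G} (h : SEl s x) :
    IsPGroup s (Subgroup.zpowers x) := by
  obtain ⟨k, hk⟩ := h
  rintro ⟨y, j, rfl⟩
  refine ⟨k, Subtype.ext ?_⟩
  show (x ^ j) ^ s ^ k = 1
  rw [← zpow_natCast, ← zpow_mul, mul_comm, zpow_mul, zpow_natCast, hk, one_zpow]

abbrev Reg (p : ℕ) (x : G) : Prop := (orderOf x).Coprime p

theorem reg_of_sel (hp : p.Prime) {s : ℕ} (hs : s.Prime) (hsp : s ≠ p) {x : G} (h : SEl s x) :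
    Reg p x := by
  obtain ⟨k, hk⟩ := h.orderOf_eq hs
  show (orderOf x).Coprime p
  rw [hk]
  exact ((Nat.coprime_primes hs hp).mpr hsp).pow_left k

/-- Noncentral `p`-regular elements. -/
def NC (p : ℕ) (x : G) : Prop := Reg p x ∧ x ∉ Subgroup.center G

theorem conj_mem_center {x g : G} (h : g * x * g⁻¹ ∈ Subgroup.center G) :
    x ∈ Subgroup.center G := by
  simpa [mul_assoc] using (inferInstance : (Subgroup.center G).Normal).conj_mem _ h g⁻¹

theorem NC.conj {x : G} (h : NC p x) (g : G) : NC p (g * x * g⁻¹) := by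
  refine ⟨?_, fun hc => h.2 (conj_mem_center hc)⟩
  show (orderOf (g * x * g⁻¹)).Coprime p
  rw [CfsgLib.Transfer.orderOf_conj]
  exact h.1

theorem NC.inv {x : G} (h : NC p x) : NC p x⁻¹ := by
  refine ⟨?_, fun hc => h.2 (by simpa using inv_mem hc)⟩
  show (orderOf x⁻¹).Coprime p
  rw [orderOf_inv]
  exact h.1

/-- Primes of noncentral `p`-regular elements. -/
def Rho (G : Type*) [Group G] (s : ℕ) : Prop := ∃ x : G, x ∉ Subgroup.center G ∧ SEl s x

/-- The configuration. -/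
structure Cfg (p : ℕ) (G : Type*) [Group G] : Prop where
  hp : p.Prime
  comm : ∀ u v : G, NC p u → NC p v → v ∈ cz u → cz v = cz u
  card : ∀ u v : G, NC p u → NC p v → ∀ s : ℕ, s.Prime → s ≠ p →
    (Nat.card (cz u)).factorization s = (Nat.card (cz v)).factorization s
  two : ∃ q r : ℕ, q.Prime ∧ r.Prime ∧ q ≠ p ∧ r ≠ p ∧ q ≠ r ∧ Rho G q ∧ Rho G r
  defect : ∃ (q : ℕ) (u : G), q.Prime ∧ q ≠ p ∧ NC p u ∧ q ∣ (cz u).index

/-- The deficient primes. -/
def Sig (p : ℕ) (G : Type*) [Group G] (s : ℕ) : Prop :=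
  s.Prime ∧ s ≠ p ∧ ∀ u : G, NC p u → s ∣ (cz u).index

theorem dvd_index_iff {s : ℕ} (hs : s.Prime) (H : Subgroup G) :
    s ∣ H.index ↔ (Nat.card H).factorization s < (Nat.card G).factorization s := by
  rw [← Subgroup.card_mul_index H, Nat.factorization_mul Nat.card_pos.ne'
    H.index_ne_zero_of_finite, hs.dvd_iff_one_le_factorization H.index_ne_zero_of_finite]
  simp
  omega

namespace Cfg

variable (h : Cfg p G)
include h

theorem ncOf {s : ℕ} (hs : s.Prime) (hsp : s ≠ p) {x : G} (hx : SEl s x)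
    (hc : x ∉ Subgroup.center G) : NC p x :=
  ⟨reg_of_sel h.hp hs hsp hx, hc⟩

theorem exists_sig : ∃ q, Sig p G q := by
  obtain ⟨q, u, hq, hqp, hu, hd⟩ := h.defect
  refine ⟨q, hq, hqp, fun v hv => ?_⟩
  rw [dvd_index_iff hq] at hd ⊢
  rwa [← h.card u v hu hv q hq hqp]

theorem not_dvd_of_not_sig {s : ℕ} (hs : s.Prime) (hsp : s ≠ p) (hns : ¬ Sig p G s) {u : G}
    (hu : NC p u) : ¬ s ∣ (cz u).index := by
  intro hd
  refine hns ⟨hs, hsp, fun v hv => ?_⟩
  rw [dvd_index_iff hs] at hd ⊢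
  rwa [← h.card u v hu hv s hs hsp]

theorem reg_commute {u v g : G} (hu : NC p u) (hv : Reg p v) (hvu : v ∈ cz u) (hg : g ∈ cz u) :
    g * v = v * g := by
  by_cases hc : v ∈ Subgroup.center G
  · exact Subgroup.mem_center_iff.mp hc g
  · exact mem_cz.mp (by rw [h.comm u v hu ⟨hv, hc⟩ hvu]; exact hg)

theorem cz_conj_eq {u g : G} (hu : NC p u) (hg : g * u * g⁻¹ ∈ cz u) :
    cz (g * u * g⁻¹) = cz u :=
  h.comm u _ hu (hu.conj g) hg

theorem mem_normalizer_iff {u g : G} (hu : NC p u) :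
    g ∈ Subgroup.normalizer (cz u : Set G) ↔ g * u * g⁻¹ ∈ cz u := by
  constructor
  · exact fun hg => (Subgroup.mem_normalizer_iff.mp hg u).mp (self_mem_cz u)
  · intro hg
    rw [Subgroup.mem_normalizer_iff]
    intro y
    rw [← h.cz_conj_eq hu hg, mem_cz_conj (y := g * y * g⁻¹), h.cz_conj_eq hu hg]
    simp [mul_assoc]

theorem mem_normalizer_of_mem {u w g : G} (hu : NC p u) (hw : NC p w) (hwu : w ∈ cz u)
    (hg : g * w * g⁻¹ ∈ cz u) : g ∈ Subgroup.normalizer (cz u : Set G) := by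
  rw [← h.comm u w hu hw hwu] at hg ⊢
  exact (h.mem_normalizer_iff hw).mpr hg

end Cfg

/-- The `s`-elements of the centralizer of `u`. -/
def tp (s : ℕ) (u : G) : Subgroup G := Subgroup.closure {x | x ∈ cz u ∧ SEl s x}

theorem tp_le (s : ℕ) (u : G) : tp s u ≤ cz u :=
  (Subgroup.closure_le _).mpr fun _ hx => hx.1

/-- The central `s`-elements. -/
def zp (G : Type*) [Group G] (s : ℕ) : Subgroup G :=
  Subgroup.closure {x | x ∈ Subgroup.center G ∧ SEl s x}

theorem zp_le_center (s : ℕ) : zp G s ≤ Subgroup.center G :=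
  (Subgroup.closure_le _).mpr fun _ hx => hx.1

theorem mem_zp {s : ℕ} {x : G} : x ∈ zp G s ↔ x ∈ Subgroup.center G ∧ SEl s x := by
  refine ⟨fun hx => ⟨zp_le_center s hx, ?_⟩, fun hx => Subgroup.subset_closure hx⟩
  induction hx using Subgroup.closure_induction with
  | mem y hy => exact hy.2
  | one => exact SEl.one s
  | mul a b ha _ iha ihb =>
    exact iha.mul ihb (Subgroup.mem_center_iff.mp (zp_le_center s ha) b).symm
  | inv a _ iha => exact iha.inv

theorem zp_le_tp (s : ℕ) (u : G) : zp G s ≤ tp s u := fun _ hx =>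
  Subgroup.subset_closure ⟨center_le_cz u (mem_zp.mp hx).1, (mem_zp.mp hx).2⟩

theorem exists_sel_pow {x : G} {K : Subgroup G} (hx : x ∉ K) :
    ∃ s : ℕ, s.Prime ∧ s ∣ orderOf x ∧ ∃ k : ℕ, x ^ k ∉ K ∧ SEl s (x ^ k) := by
  suffices H : ∀ n : ℕ, ∀ x : G, orderOf x = n → x ∉ K →
      ∃ s : ℕ, s.Prime ∧ s ∣ n ∧ ∃ k : ℕ, x ^ k ∉ K ∧ SEl s (x ^ k) from H _ x rfl hx
  intro n
  induction n using Nat.recOnPrimeCoprime with
  | zero => exact fun x hx => absurd hx (orderOf_pos x).ne'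
  | prime_pow q k hq =>
    intro x hx hxK
    rcases Nat.eq_zero_or_pos k with rfl | hk
    · rw [pow_zero, orderOf_eq_one_iff] at hx
      exact absurd (hx ▸ one_mem K) hxK
    exact ⟨q, hq, dvd_pow_self q hk.ne', 1, by rwa [pow_one],
      ⟨k, by rw [pow_one, ← hx, pow_orderOf_eq_one]⟩⟩
  | coprime a b ha hb hab iha ihb =>
    intro x hx hxK
    have h1 : orderOf (x ^ b) = a := by
      rw [orderOf_pow' x (by omega), hx, Nat.gcd_mul_left_left, Nat.mul_div_cancel _ (by omega)]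
    have h2 : orderOf (x ^ a) = b := by
      rw [orderOf_pow' x (by omega), hx, Nat.gcd_mul_right_left,
        Nat.mul_div_cancel_left _ (by omega)]
    by_cases hb' : x ^ b ∈ K
    · by_cases ha' : x ^ a ∈ K
      · refine absurd ?_ hxK
        have h3 := Int.gcd_eq_gcd_ab (a : ℤ) (b : ℤ)
        rw [Int.gcd_natCast_natCast, hab] at h3
        have e : x = (x ^ a) ^ (Int.gcdA a b) * (x ^ b) ^ (Int.gcdB a b) := by
          rw [← zpow_natCast, ← zpow_natCast, ← zpow_mul, ← zpow_mul, ← zpow_add, ← h3]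
          simp
        rw [e]
        exact mul_mem (zpow_mem ha' _) (zpow_mem hb' _)
      · obtain ⟨s, hs, hsd, k, hk, hks⟩ := ihb _ h2 ha'
        exact ⟨s, hs, hsd.trans (dvd_mul_left b a), a * k, by rwa [pow_mul], by rwa [pow_mul]⟩
    · obtain ⟨s, hs, hsd, k, hk, hks⟩ := iha _ h1 hb'
      exact ⟨s, hs, hsd.trans (dvd_mul_right a b), b * k, by rwa [pow_mul], by rwa [pow_mul]⟩

theorem NC.exists_prime_part (hp : p.Prime) {x : G} (hx : NC p x) :
    ∃ s : ℕ, s.Prime ∧ s ≠ p ∧ ∃ k : ℕ, NC p (x ^ k) ∧ SEl s (x ^ k) := by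
  obtain ⟨s, hs, hsd, k, hk, hks⟩ := exists_sel_pow hx.2
  have hsp : s ≠ p := fun e => (Nat.Prime.coprime_iff_not_dvd hp).mp hx.1.symm (e ▸ hsd)
  exact ⟨s, hs, hsp, k, ⟨reg_of_sel hp hs hsp hks, hk⟩, hks⟩

namespace Cfg

variable (h : Cfg p G)
include h

theorem mem_tp {s : ℕ} (hs : s.Prime) (hsp : s ≠ p) {u : G} (hu : NC p u) {x : G} :
    x ∈ tp s u ↔ x ∈ cz u ∧ SEl s x := by
  refine ⟨fun hx => ⟨tp_le s u hx, ?_⟩, fun hx => Subgroup.subset_closure hx⟩
  induction hx using Subgroup.closure_induction with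
  | mem y hy => exact hy.2
  | one => exact SEl.one s
  | mul a b ha hb iha ihb =>
    exact iha.mul ihb (h.reg_commute hu (reg_of_sel h.hp hs hsp iha) (tp_le s u ha)
      (tp_le s u hb)).symm
  | inv a _ iha => exact iha.inv

theorem isPGroup_tp {s : ℕ} (hs : s.Prime) (hsp : s ≠ p) {u : G} (hu : NC p u) :
    IsPGroup s (tp s u) := by
  rintro ⟨x, hx⟩
  obtain ⟨k, hk⟩ := ((h.mem_tp hs hsp hu).mp hx).2
  exact ⟨k, Subtype.ext hk⟩

theorem tp_comm {s : ℕ} (hs : s.Prime) (hsp : s ≠ p) {u : G} (hu : NC p u) {x g : G}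
    (hx : x ∈ tp s u) (hg : g ∈ cz u) : g * x = x * g :=
  h.reg_commute hu (reg_of_sel h.hp hs hsp ((h.mem_tp hs hsp hu).mp hx).2) (tp_le s u hx) hg

theorem card_tp {s : ℕ} (hs : s.Prime) (hsp : s ≠ p) {u : G} (hu : NC p u) :
    Nat.card (tp s u) = s ^ (Nat.card (cz u)).factorization s := by
  haveI := Fact.mk hs
  haveI : ((tp s u).subgroupOf (cz u)).Normal := by
    refine ⟨fun x hx g => ?_⟩
    rw [Subgroup.mem_subgroupOf] at hx ⊢
    have e : ((g * x * g⁻¹ : cz u) : G) = x := by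
      push_cast
      rw [h.tp_comm hs hsp hu hx g.2, mul_inv_cancel_right]
    rwa [e]
  let S : Sylow s (cz u) := default
  have h1 : (tp s u).subgroupOf (cz u) = (S : Subgroup (cz u)) := by
    refine le_antisymm (IsPGroup.le_sylow_of_normal
      ((h.isPGroup_tp hs hsp hu).of_equiv (Subgroup.subgroupOfEquivOfLe (tp_le s u)).symm) S) ?_
    intro x hx
    rw [Subgroup.mem_subgroupOf, h.mem_tp hs hsp hu]
    obtain ⟨k, hk⟩ := S.2 ⟨x, hx⟩
    exact ⟨x.2, k, by simpa using congrArg (fun y : S => ((y : cz u) : G)) hk⟩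
  rw [← Nat.card_congr (Subgroup.subgroupOfEquivOfLe (tp_le s u)).toEquiv, h1]
  exact S.card_eq_multiplicity

theorem card_tp_eq {s : ℕ} (hs : s.Prime) (hsp : s ≠ p) {u v : G} (hu : NC p u) (hv : NC p v) :
    Nat.card (tp s u) = Nat.card (tp s v) := by
  rw [h.card_tp hs hsp hu, h.card_tp hs hsp hv, h.card u v hu hv s hs hsp]

theorem inf_tp {s : ℕ} (hs : s.Prime) (hsp : s ≠ p) {u v : G} (hu : NC p u) (hv : NC p v)
    (hne : cz u ≠ cz v) : tp s u ⊓ tp s v = zp G s := by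
  refine le_antisymm ?_ (le_inf (zp_le_tp s u) (zp_le_tp s v))
  intro x hx
  obtain ⟨hxu, hxv⟩ := Subgroup.mem_inf.mp hx
  obtain ⟨hxu', hxs⟩ := (h.mem_tp hs hsp hu).mp hxu
  refine mem_zp.mpr ⟨?_, hxs⟩
  by_contra hc
  have hxn := h.ncOf hs hsp hxs hc
  exact hne ((h.comm u x hu hxn hxu').symm.trans (h.comm v x hv hxn (tp_le s v hxv)))

/-- Every prime of noncentral regular elements occurs in every centralizer. -/
theorem exists_mem_tp {s : ℕ} (hs : s.Prime) (hsp : s ≠ p) (hrho : Rho G s) {u : G}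
    (hu : NC p u) : ∃ y ∈ tp s u, y ∉ Subgroup.center G := by
  by_contra hne
  push Not at hne
  obtain ⟨y, hy, hys⟩ := hrho
  have hyn := h.ncOf hs hsp hys hy
  have hle : tp s u ≤ tp s y := fun x hx =>
    Subgroup.subset_closure ⟨center_le_cz y (hne x hx), ((h.mem_tp hs hsp hu).mp hx).2⟩
  have heq := Subgroup.eq_of_le_of_card_ge hle (h.card_tp_eq hs hsp hyn hu).le
  exact hy (hne y (heq ▸ (h.mem_tp hs hsp hyn).mpr ⟨self_mem_cz y, hys⟩))

theorem rho_of_sig {s : ℕ} (hS : Sig p G s) {u : G} (hu : NC p u) : Rho G s := by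
  haveI := Fact.mk hS.1
  by_contra hne
  let Q : Sylow s G := default
  have hle : (Q : Subgroup G) ≤ cz u := by
    intro x hx
    refine center_le_cz u ?_
    by_contra hc
    exact hne ⟨x, hc, sel_of_mem Q.2 hx⟩
  exact Q.not_dvd_index ((hS.2.2 u hu).trans (Subgroup.index_dvd_of_le hle))

theorem tp_conj_mem {s : ℕ} (hs : s.Prime) (hsp : s ≠ p) {u v x : G} (hu : NC p u)
    (hv : v ∈ Subgroup.normalizer (cz u : Set G)) (hx : x ∈ tp s u) :
    v * x * v⁻¹ ∈ tp s u := by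
  obtain ⟨hxu, hxs⟩ := (h.mem_tp hs hsp hu).mp hx
  exact (h.mem_tp hs hsp hu).mpr ⟨(Subgroup.mem_normalizer_iff.mp hv x).mp hxu, hxs.conj v⟩

/-- A `q`-element normalizing, but not in, a centralizer fixes only central `r`-cosets. -/
theorem fpf {q r : ℕ} (hq : q.Prime) (hr : r.Prime) (hrp : r ≠ p) (hqr : q ≠ r) {u v f : G}
    (hu : NC p u) (hv : v ∈ Subgroup.normalizer (cz u : Set G)) (hv' : v ∉ cz u) (hvs : SEl q v)
    (hf : f ∈ tp r u) (hc : v * f * v⁻¹ * f⁻¹ ∈ Subgroup.center G) :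
    f ∈ Subgroup.center G := by
  set c := v * f * v⁻¹ * f⁻¹ with hcd
  have hcr : SEl r c := ((h.mem_tp hr hrp hu).mp
    (mul_mem (h.tp_conj_mem hr hrp hu hv hf) (inv_mem hf))).2
  have hcc := Subgroup.mem_center_iff.mp hc
  have hpow : ∀ n : ℕ, v ^ n * f * (v ^ n)⁻¹ = c ^ n * f := by
    intro n
    induction n with
    | zero => simp
    | succ n ih =>
      have e : v ^ (n + 1) * f * (v ^ (n + 1))⁻¹ = v * (v ^ n * f * (v ^ n)⁻¹) * v⁻¹ := by
        rw [pow_succ']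
        group
      rw [e, ih, pow_succ]
      have h1 : v * c ^ n = c ^ n * v := (Commute.pow_right (hcc v) n).eq
      calc v * (c ^ n * f) * v⁻¹ = (v * c ^ n) * f * v⁻¹ := by group
        _ = c ^ n * (v * f * v⁻¹ * f⁻¹) * f := by rw [h1]; group
        _ = c ^ n * c * f := by rw [← hcd]
  obtain ⟨k, hk⟩ := hvs
  have h1 := hpow (q ^ k)
  rw [hk, inv_one, one_mul, mul_one] at h1
  have hc1 : c = 1 := SEl.eq_one hq hr hqr ⟨k, mul_eq_right.mp h1.symm⟩ hcr
  by_contra hfc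
  refine hv' ?_
  rw [← h.comm u f hu (h.ncOf hr hrp ((h.mem_tp hr hrp hu).mp hf).2 hfc) (tp_le r u hf), mem_cz]
  rw [hcd, mul_inv_eq_one, mul_inv_eq_iff_eq_mul] at hc1
  exact hc1

/-- An `r`-element normalizing a centralizer fixes a noncentral `r`-coset. -/
theorem exists_fixed {r : ℕ} (hr : r.Prime) (hrp : r ≠ p) (hrho : Rho G r) {u w : G}
    (hu : NC p u) (hw : w ∈ Subgroup.normalizer (cz u : Set G)) (hws : SEl r w) :
    ∃ f ∈ tp r u, f ∉ Subgroup.center G ∧ w * f * w⁻¹ * f⁻¹ ∈ Subgroup.center G := by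
  classical
  haveI := Fact.mk hr
  by_contra hne
  push Not at hne
  set H := tp r u ⊔ Subgroup.zpowers w with hH
  have hnorm : Subgroup.zpowers w ≤ Subgroup.normalizer (tp r u : Set G) := by
    rw [Subgroup.zpowers_le, Subgroup.mem_normalizer_iff]
    intro x
    refine ⟨fun hx => h.tp_conj_mem hr hrp hu hw hx, fun hx => ?_⟩
    have := h.tp_conj_mem hr hrp hu (inv_mem hw) hx
    simpa [mul_assoc] using this
  have hHp : IsPGroup r H :=
    IsPGroup.to_sup_of_normal_left' (h.isPGroup_tp hr hrp hu) (isPGroup_zpowers_of_sel hws) hnorm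
  haveI := hHp.isNilpotent
  obtain ⟨n, hn⟩ := (Subgroup.nilpotent_iff_lowerCentralSeries (G := H)).mp inferInstance
  let w' : H := ⟨w, Subgroup.mem_sup_right (Subgroup.mem_zpowers w)⟩
  have key : ∀ k : ℕ, ∃ f : H, f ∈ (⊤ : Subgroup H).lowerCentralSeries k ∧
      (f : G) ∈ tp r u ∧ (f : G) ∉ Subgroup.center G := by
    intro k
    induction k with
    | zero =>
      obtain ⟨y, hy, hyc⟩ := h.exists_mem_tp hr hrp hrho hu
      exact ⟨⟨y, Subgroup.mem_sup_left hy⟩, by simp, hy, hyc⟩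
    | succ k ih =>
      obtain ⟨f, hfk, hft, hfc⟩ := ih
      refine ⟨(f * w' * f⁻¹ * w'⁻¹)⁻¹, ?_, ?_, ?_⟩
      · refine inv_mem ?_
        rw [Subgroup.lowerCentralSeries_succ]
        exact Subgroup.commutator_mem_commutator hfk (Subgroup.mem_top w')
      · push_cast
        have e : (↑f * w * (↑f)⁻¹ * w⁻¹ : G)⁻¹ = w * ↑f * w⁻¹ * (↑f)⁻¹ := by group
        rw [e]
        exact mul_mem (h.tp_conj_mem hr hrp hu hw hft) (inv_mem hft)
      · push_cast
        have e : (↑f * w * (↑f)⁻¹ * w⁻¹ : G)⁻¹ = w * ↑f * w⁻¹ * (↑f)⁻¹ := by group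
        rw [e]
        exact hne _ hft hfc
  obtain ⟨f, hf, -, hfc⟩ := key n
  rw [hn, Subgroup.mem_bot] at hf
  exact hfc (by rw [hf]; exact one_mem _)

/-- No two commuting elements of distinct prime power orders normalize, but lie outside, a
centralizer. -/
theorem commute_false {q r : ℕ} (hq : q.Prime) (hqp : q ≠ p) (hr : r.Prime) (hrp : r ≠ p)
    (hqr : q ≠ r) {u v w : G} (hu : NC p u) (hv : v ∈ Subgroup.normalizer (cz u : Set G))
    (hv' : v ∉ cz u) (hvs : SEl q v) (hw : w ∈ Subgroup.normalizer (cz u : Set G))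
    (hw' : w ∉ cz u) (hws : SEl r w) (hvw : v * w = w * v) : False := by
  have hwc : w ∉ Subgroup.center G := fun hc => hw' (center_le_cz u hc)
  have hvc : v ∉ Subgroup.center G := fun hc => hv' (center_le_cz u hc)
  have hvn := h.ncOf hq hqp hvs hvc
  have hwn := h.ncOf hr hrp hws hwc
  obtain ⟨f, hf, hfc, hc⟩ := h.exists_fixed hr hrp ⟨w, hwc, hws⟩ hu hw hws
  have hwv : cz w = cz v := h.comm v w hvn hwn (mem_cz.mpr hvw.symm)
  have hfwn : f * w * f⁻¹ ∈ cz w := by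
    have e : f * w * f⁻¹ = (w * f * w⁻¹ * f⁻¹)⁻¹ * w := by group
    rw [e]
    exact mul_mem (inv_mem (center_le_cz w hc)) (self_mem_cz w)
  have hfN : f ∈ Subgroup.normalizer (cz v : Set G) := by
    rw [← hwv]
    exact (h.mem_normalizer_iff hwn).mpr hfwn
  set d := f * v * f⁻¹ * v⁻¹ with hd
  have hd1 : d ∈ tp r u := by
    have e : d = f * (v * f⁻¹ * v⁻¹) := by rw [hd]; group
    rw [e]
    exact mul_mem hf (h.tp_conj_mem hr hrp hu hv (inv_mem hf))
  have hd2 : d ∈ cz v := mul_mem ((Subgroup.mem_normalizer_iff.mp hfN v).mp (self_mem_cz v))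
    (inv_mem (self_mem_cz v))
  have hdc : d ∈ Subgroup.center G := by
    by_contra hdc
    have hdn := h.ncOf hr hrp ((h.mem_tp hr hrp hu).mp hd1).2 hdc
    refine hv' ?_
    rw [← h.comm u d hu hdn (tp_le r u hd1), h.comm v d hvn hdn hd2]
    exact self_mem_cz v
  refine hfc (h.fpf hq hr hrp hqr hu hv hv' hvs hf ?_)
  have e : v * f * v⁻¹ * f⁻¹ = d⁻¹ := by rw [hd]; group
  rw [e]
  exact inv_mem hdc

end Cfg

end CfsgLib.TwoPReg
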