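import Cfsg.Agent.Lib.TwoPReg.Sylow
import Cfsg.Agent.Lib.Blocks.Kazarin
import Cfsg.Agent.Lib.Baer.Basic
import Cfsg.Agent.Lib.Hall.Basic
import Cfsg.Agent.Lib.OddOrder.Solvable

/-!
The configuration is impossible if `O_p(G) = 1`.
-/

set_option autoImplicit false
set_option linter.style.haveILetI false
set_option linter.unusedSectionVars false

open scoped Pointwise

namespace CfsgLib.TwoPReg

variable {G : Type*} [Group G] [Finite G] {p : ℕ}

namespace Cfg

variable (h : Cfg p G)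
include h

theorem exists_outside {u : G} (hu : NC p u) :
    ∃ q v, Sig p G q ∧ NC p v ∧ SEl q v ∧ v ∉ cz u := by
  obtain ⟨q, hS⟩ := h.exists_sig
  haveI := Fact.mk hS.1
  let Q : Sylow q G := default
  obtain ⟨v, hvQ, hv⟩ := SetLike.not_le_iff_exists.mp (h.not_sylow_le hS Q hu)
  have hvc : v ∉ Subgroup.center G := fun hc => hv (center_le_cz u hc)
  exact ⟨q, v, hS, h.ncOf hS.1 hS.2.1 (sel_of_mem Q.2 hvQ) hvc, sel_of_mem Q.2 hvQ, hv⟩

/-- No centralizer is normal. -/
theorem normal_false {u : G} (hu : NC p u)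
    (hnorm : ∀ g, g ∈ Subgroup.normalizer (cz u : Set G)) : False := by
  obtain ⟨q, v, hS, hv, hvs, hvu⟩ := h.exists_outside hu
  obtain ⟨r, hr, hrp, hrq, hrho⟩ := h.exists_rho_ne q
  obtain ⟨y, hy, hyc⟩ := h.exists_mem_tp hr hrp hrho hv
  obtain ⟨hyv, hys⟩ := (h.mem_tp hr hrp hv).mp hy
  have hyn := h.ncOf hr hrp hys hyc
  refine h.commute_false hS.1 hS.2.1 hr hrp (Ne.symm hrq) hu (hnorm v) hvu hvs (hnorm y) ?_ hys
    (mem_cz.mp hyv).symm
  intro hyu
  refine hvu ?_
  rw [← h.comm u y hu hyn hyu, h.comm v y hv hyn hyv]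
  exact self_mem_cz v

theorem tp_conj_le {s : ℕ} (hs : s.Prime) (hsp : s ≠ p) {u g : G} (hu : NC p u) {x : G}
    (hx : x ∈ tp s (g * u * g⁻¹)) : g⁻¹ * x * g ∈ tp s u := by
  obtain ⟨h1, h2⟩ := (h.mem_tp hs hsp (hu.conj g)).mp hx
  exact (h.mem_tp hs hsp hu).mpr ⟨mem_cz_conj.mp h1, by simpa using h2.conj g⁻¹⟩

/-- Two full parts in one Sylow subgroup. -/
def Two (G : Type*) [Group G] (p s : ℕ) : Prop :=
  ∃ (Q : Sylow s G) (u v : G), NC p u ∧ NC p v ∧ tp s u ≤ (Q : Subgroup G) ∧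
    tp s v ≤ (Q : Subgroup G) ∧ cz u ≠ cz v

theorem zp_relIndex_eq {s : ℕ} (hs : s.Prime) (hsp : s ≠ p) {u v : G} (hu : NC p u)
    (hv : NC p v) : (zp G s).relIndex (tp s u) = (zp G s).relIndex (tp s v) := by
  have h1 := CfsgLib.Coprime.relIndex_mul_card_inf (zp G s) (tp s u)
  have h2 := CfsgLib.Coprime.relIndex_mul_card_inf (zp G s) (tp s v)
  rw [inf_eq_left.mpr (zp_le_tp s u)] at h1
  rw [inf_eq_left.mpr (zp_le_tp s v), ← h.card_tp_eq hs hsp hu hv, ← h1] at h2
  exact (Nat.eq_of_mul_eq_mul_right Nat.card_pos h2).symm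

theorem two_le_relIndex {s : ℕ} (hs : s.Prime) (hsp : s ≠ p) (hrho : Rho G s) {u : G}
    (hu : NC p u) : 2 ≤ (zp G s).relIndex (tp s u) := by
  obtain ⟨y, hy, hyc⟩ := h.exists_mem_tp hs hsp hrho hu
  have h0 : (zp G s).relIndex (tp s u) ≠ 0 := Subgroup.index_ne_zero_of_finite
  have h1 : (zp G s).relIndex (tp s u) ≠ 1 := fun e =>
    hyc (zp_le_center s (Subgroup.relIndex_eq_one.mp e hy))
  omega

theorem le_of_two {s : ℕ} (hs : s.Prime) (hsp : s ≠ p) (hT : Two G p s) (Q : Sylow s G) {z : G}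
    (hz : NC p z) (hQ : (Q : Subgroup G) ≤ Subgroup.normalizer (cz z : Set G)) :
    (zp G s).relIndex (tp s z) ≤ (cz z).relIndex (Q : Subgroup G) := by
  haveI := Fact.mk hs
  obtain ⟨Q', u, v, hu, hv, huQ, hvQ, hne⟩ := hT
  have e1 : (zp G s).relIndex (tp s v) = (tp s u).relIndex (tp s v) := by
    rw [← h.inf_tp hs hsp hu hv hne, Subgroup.inf_relIndex_right]
  have h2 : (tp s u).relIndex (tp s v) ≤ (tp s u).relIndex (Q' : Subgroup G) :=
    Subgroup.relIndex_le_of_le_right hvQ Subgroup.index_ne_zero_of_finite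
  have h3 := CfsgLib.Coprime.relIndex_mul_card_inf (tp s u) (Q' : Subgroup G)
  rw [inf_eq_left.mpr huQ] at h3
  have h4 := CfsgLib.Coprime.relIndex_mul_card_inf (cz z) (Q : Subgroup G)
  rw [inf_comm, h.inf_eq_tp hs hsp Q hz hQ] at h4
  rw [Q'.card_eq_multiplicity, ← Q.card_eq_multiplicity, ← h4, h.card_tp_eq hs hsp hu hz] at h3
  rw [h.zp_relIndex_eq hs hsp hz hv, e1, ← Nat.eq_of_mul_eq_mul_right Nat.card_pos h3]
  exact h2

theorem exists_unique_prime {q r : ℕ} (hqr : q ≠ r) (hq : Sig p G q) (hr : Sig p G r) :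
    ¬ Two G p q ∨ ¬ Two G p r := by
  by_contra hcon
  push Not at hcon
  obtain ⟨hTq, hTr⟩ := hcon
  obtain ⟨u, hu⟩ := h.exists_nc
  haveI := Fact.mk hq.1
  haveI := Fact.mk hr.1
  let Q : Sylow q G := default
  let R : Sylow r G := default
  obtain ⟨z, -, hz, hzc⟩ := h.exists_central_mod hq Q
  obtain ⟨z', -, hz', hzc'⟩ := h.exists_central_mod hr R
  have hQ := h.sylow_le_normalizer Q hz hzc
  have hR := h.sylow_le_normalizer R hz' hzc'
  have a1 := h.le_of_two hq.1 hq.2.1 hTq Q hz hQ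
  have a2 := h.le_of_two hr.1 hr.2.1 hTr R hz' hR
  have b1 := h.relIndex_dvd hq.1 hr.1 hr.2.1 hqr Q hz hQ
  have b2 := h.relIndex_dvd hr.1 hq.1 hq.2.1 hqr.symm R hz' hR
  have c1 := h.two_le_relIndex hq.1 hq.2.1 (h.rho_of_sig hq hu) hz
  have c2 := h.two_le_relIndex hr.1 hr.2.1 (h.rho_of_sig hr hu) hz'
  rw [h.zp_relIndex_eq hr.1 hr.2.1 hz hz'] at b1
  rw [h.zp_relIndex_eq hq.1 hq.2.1 hz' hz] at b2
  have d1 := Nat.le_of_dvd (by omega) b1
  have d2 := Nat.le_of_dvd (by omega) b2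
  omega

/-- All centralizers are conjugate. -/
theorem one_class {r : ℕ} (hr : Sig p G r) (hU : ¬ Two G p r) {u v : G} (hu : NC p u)
    (hv : NC p v) : ∃ g : G, cz v = cz (g * u * g⁻¹) := by
  haveI := Fact.mk hr.1
  obtain ⟨R, hR⟩ := (h.isPGroup_tp hr.1 hr.2.1 hu).exists_le_sylow
  obtain ⟨R', hR'⟩ := (h.isPGroup_tp hr.1 hr.2.1 hv).exists_le_sylow
  obtain ⟨g, hg⟩ := MulAction.exists_smul_eq G R R'
  refine ⟨g, ?_⟩
  by_contra hne
  refine hU ⟨R', v, g * u * g⁻¹, hv, hu.conj g, hR', fun x hx => ?_, hne⟩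
  rw [← hg, Sylow.coe_subgroup_smul, CfsgLib.Coprime.mem_conj_smul_iff]
  exact hR (h.tp_conj_le hr.1 hr.2.1 hu hx)

theorem not_dvd_index_normalizer {r : ℕ} (hr : Sig p G r) (hU : ¬ Two G p r) {u : G} (hu : NC p u)
    {s : ℕ} (hs : s.Prime) (hsp : s ≠ p) :
    ¬ s ∣ (Subgroup.normalizer (cz u : Set G)).index := by
  intro hd
  haveI := Fact.mk hs
  by_cases hS : Sig p G s
  · let Q : Sylow s G := default
    obtain ⟨z, -, hz, hzc⟩ := h.exists_central_mod hS Q
    obtain ⟨g, hg⟩ := h.one_class hr hU hu hz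
    have hle : MulAut.conj g⁻¹ • (Q : Subgroup G) ≤ Subgroup.normalizer (cz u : Set G) := by
      intro x hx
      rw [CfsgLib.Coprime.mem_conj_smul_iff, inv_inv] at hx
      have h1 := h.sylow_le_normalizer Q hz hzc hx
      rw [hg, h.mem_normalizer_iff (hu.conj g), mem_cz_conj] at h1
      rw [h.mem_normalizer_iff hu]
      simpa [mul_assoc] using h1
    rw [← Sylow.coe_subgroup_smul] at hle
    exact (MulAut.conj g⁻¹ • Q : Sylow s G).not_dvd_index
      (hd.trans (Subgroup.index_dvd_of_le hle))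
  · exact h.not_dvd_of_not_sig hs hsp hS hu
      (hd.trans (Subgroup.index_dvd_of_le Subgroup.le_normalizer))

theorem dvd_card_wq {r : ℕ} (hr : Sig p G r) (hU : ¬ Two G p r) {u : G} (hu : NC p u)
    {s : ℕ} (hS : Sig p G s) : s ∣ Nat.card (Wq u) := by
  have h1 := hS.2.2 u hu
  rw [← Subgroup.relIndex_mul_index (Subgroup.le_normalizer (H := cz u))] at h1
  exact (hS.1.dvd_mul.mp h1).resolve_right (h.not_dvd_index_normalizer hr hU hu hS.1 hS.2.1)

/-- One deficient prime: Kazarin's theorem. -/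
theorem single_false [Fact p.Prime] (hO : Cfsg.pCore p G = ⊥) {q : ℕ} (hq : Sig p G q)
    (huniq : ∀ s, Sig p G s → s = q) : False := by
  haveI := Fact.mk hq.1
  let Q : Sylow q G := default
  obtain ⟨z, hzQ, hz, hzc⟩ := h.exists_central_mod hq Q
  let Z' : Subgroup G :=
    { carrier := {x | x ∈ Subgroup.center G ∧ Reg p x}
      one_mem' := ⟨one_mem _, by show (orderOf (1 : G)).Coprime p; rw [orderOf_one]; exact Nat.coprime_one_left p⟩
      mul_mem' := fun {a b} ha hb => ⟨mul_mem ha.1 hb.1,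
        Nat.Coprime.coprime_dvd_left (Commute.orderOf_mul_dvd_mul_orderOf
          (Subgroup.mem_center_iff.mp hb.1 a)) (Nat.Coprime.mul_left ha.2 hb.2)⟩
      inv_mem' := fun {a} ha => ⟨inv_mem ha.1, by show (orderOf a⁻¹).Coprime p; rw [orderOf_inv]; exact ha.2⟩ }
  have hZc : Z' ≤ Subgroup.center G := fun x hx => hx.1
  haveI : Z'.Normal := ⟨fun x hx g => by
    rwa [Subgroup.mem_center_iff.mp (hZc hx) g, mul_inv_cancel_right]⟩
  set f := QuotientGroup.mk' Z' with hf
  have hsurj : Function.Surjective f := QuotientGroup.mk'_surjective Z'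
  -- the class of the image of `z` has `p`-power size
  have hcl : ∃ a, (Subgroup.centralizer ({f z} : Set (G ⧸ Z'))).index = p ^ a := by
    set D := Subgroup.centralizer ({f z} : Set (G ⧸ Z')) with hD
    rw [← Subgroup.index_comap_of_surjective D hsurj]
    refine ⟨_, Nat.eq_prime_pow_of_unique_prime_dvd Subgroup.index_ne_zero_of_finite
      fun {s} hs hsd => ?_⟩
    by_contra hsp
    have h1 : cz z ≤ D.comap f := by
      intro x hx
      rw [Subgroup.mem_comap, hD, Subgroup.mem_centralizer_singleton_iff, ← map_mul, ← map_mul,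
        mem_cz.mp hx]
    have h2 : (Q : Subgroup G) ≤ D.comap f := by
      intro g hg
      rw [Subgroup.mem_comap, hD, Subgroup.mem_centralizer_singleton_iff, ← map_mul, ← map_mul,
        hf, QuotientGroup.mk'_apply, QuotientGroup.mk'_apply, QuotientGroup.eq]
      have e : (g * z)⁻¹ * (z * g) = (g * z)⁻¹ * (g * z * g⁻¹ * z⁻¹)⁻¹ * (g * z) := by group
      rw [e, Subgroup.mem_center_iff.mp (inv_mem (hzc g hg)) (g * z)⁻¹, inv_mul_cancel_right]
      refine inv_mem ⟨hzc g hg, reg_of_sel h.hp hq.1 hq.2.1 (sel_of_mem Q.2 ?_)⟩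
      exact mul_mem (mul_mem (mul_mem hg hzQ) (inv_mem hg)) (inv_mem hzQ)
    rcases eq_or_ne s q with rfl | hsq
    · exact Q.not_dvd_index (hsd.trans (Subgroup.index_dvd_of_le h2))
    · exact h.not_dvd_of_not_sig hs hsp (fun hS => hsq (huniq s hS)) hz
        (hsd.trans (Subgroup.index_dvd_of_le h1))
  have hpre : ∀ (t : ℕ), t.Prime → ∀ x : G, x ∈ (Cfsg.pCore t (G ⧸ Z')).comap f → SEl t x →
      x ∈ Cfsg.pCore t G := by
    intro t ht x hx hxs
    haveI := Fact.mk ht
    haveI := CfsgLib.Fitting.pCore_normal (G := G ⧸ Z') t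
    set X := (Cfsg.pCore t (G ⧸ Z')).comap f with hX
    haveI : X.Normal := inferInstance
    haveI : Group.IsNilpotent X := by
      let f' : X →* Cfsg.pCore t (G ⧸ Z') := (f.comp X.subtype).codRestrict _ fun y => y.2
      haveI := (CfsgLib.Fitting.pCore_isPGroup (G := G ⧸ Z') t).isNilpotent
      refine Subgroup.isNilpotent_of_ker_le_center f' ?_
      intro y hy
      rw [MonoidHom.mem_ker] at hy
      have hy' : f (y : G) = 1 := congrArg Subtype.val hy
      rw [hf, QuotientGroup.mk'_apply, QuotientGroup.eq_one_iff] at hy'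
      exact Subgroup.mem_center_iff.mpr fun w =>
        Subtype.ext (Subgroup.mem_center_iff.mp (hZc hy') w)
    let S : Sylow t X := default
    haveI : (S : Subgroup X).Normal :=
      S.normal_of_normalizerCondition Group.normalizerCondition_of_isNilpotent
    haveI : (S : Subgroup X).Characteristic := S.characteristic_of_normal inferInstance
    have hxS : (⟨x, hx⟩ : X) ∈ (S : Subgroup X) := by
      have hp' : IsPGroup t (Subgroup.zpowers (⟨x, hx⟩ : X)) := isPGroup_zpowers_of_sel (by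
        obtain ⟨k, hk⟩ := hxs
        exact ⟨k, Subtype.ext hk⟩)
      exact (S.3 (IsPGroup.to_sup_of_normal_right hp' S.2) le_sup_right).le
        (Subgroup.mem_sup_left (Subgroup.mem_zpowers _))
    exact CfsgLib.Fitting.le_pCore ConjAct.normal_of_characteristic_of_normal
      (S.2.map X.subtype) ⟨_, hxS, rfl⟩
  have hOq : Cfsg.pCore p (G ⧸ Z') = ⊥ := by
    rw [Subgroup.eq_bot_iff_forall]
    intro c hc
    obtain ⟨x, rfl⟩ := hsurj c
    obtain ⟨a, m, hm, hor, hcop, hma⟩ := CfsgLib.Transfer.exists_pow_coprime_part (p := p) x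
    have h1 : x ^ m ∈ Cfsg.pCore p G := hpre p h.hp _ (by
      rw [Subgroup.mem_comap, map_pow]; exact pow_mem hc m) ⟨a, by rw [← hma, pow_orderOf_eq_one]⟩
    rw [hO, Subgroup.mem_bot] at h1
    have h2 : f x ^ m = 1 := by rw [← map_pow, h1, map_one]
    obtain ⟨k, hk⟩ := (sel_of_mem (CfsgLib.Fitting.pCore_isPGroup p) hc)
    have h3 := pow_gcd_eq_one.mpr ⟨hk, h2⟩
    rwa [show Nat.gcd (p ^ k) m = 1 from (h.hp.coprime_iff_not_dvd.mpr hm).pow_left k,
      pow_one] at h3
  obtain ⟨a, ha⟩ := hcl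
  have hzs : SEl q z := sel_of_mem Q.2 hzQ
  obtain ⟨k, hk⟩ : ∃ k, orderOf (f z) = q ^ k := by
    refine SEl.orderOf_eq hq.1 ?_
    obtain ⟨k, hk⟩ := hzs
    exact ⟨k, by rw [← map_pow, hk, map_one]⟩
  have hzS : z ∈ Cfsg.pCore q G :=
    hpre q hq.1 z (CfsgLib.Blocks.Kazarin.mem_pCore_of_class hq.1 hOq hk ha) hzs
  -- the core lies in the centralizer
  have hQz := h.sylow_le_normalizer Q hz hzc
  obtain ⟨r, hr, hrp, hrq, hrho⟩ := h.exists_rho_ne q
  obtain ⟨y, hy, hyc⟩ := h.exists_mem_tp hr hrp hrho hz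
  obtain ⟨hyz, hys⟩ := (h.mem_tp hr hrp hz).mp hy
  have hyn := h.ncOf hr hrp hys hyc
  haveI := CfsgLib.Fitting.pCore_normal (G := G) q
  have hcore : ∀ u ∈ Cfsg.pCore q G, u ∈ cz z := by
    intro u hu
    have huQ : u ∈ (Q : Subgroup G) := CfsgLib.Fitting.mem_pCore_iff_forall_sylow.mp hu Q
    set c := u⁻¹ * (y * u * y⁻¹) with hc
    have hcS : c ∈ Cfsg.pCore q G := mul_mem (inv_mem hu)
      ((inferInstance : (Cfsg.pCore q G).Normal).conj_mem _ hu y)
    have hd := Subgroup.mem_center_iff.mp (hzc u huQ)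
    set d := u * z * u⁻¹ * z⁻¹ with hdd
    have huz : u * z = d * z * u := by rw [hdd]; group
    have hzy : y * z = z * y := mem_cz.mp hyz
    have hzy' : y⁻¹ * z = z * y⁻¹ := ((Commute.inv_left (hzy : Commute y z))).eq
    have h1 : (y * u * y⁻¹) * z = d * z * (y * u * y⁻¹) := by
      calc (y * u * y⁻¹) * z = y * (u * z) * y⁻¹ := by
            rw [mul_assoc (y * u), hzy']; group
        _ = (y * d) * z * u * y⁻¹ := by rw [huz]; group
        _ = d * (y * z) * u * y⁻¹ := by rw [hd y]; group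
        _ = d * z * (y * u * y⁻¹) := by rw [hzy]; group
    have hcz : c ∈ cz z := by
      rw [mem_cz, hc]
      calc u⁻¹ * (y * u * y⁻¹) * z = u⁻¹ * ((y * u * y⁻¹) * z) := by group
        _ = u⁻¹ * (d * z * (y * u * y⁻¹)) := by rw [h1]
        _ = u⁻¹ * (d * z * u) * u⁻¹ * (y * u * y⁻¹) := by group
        _ = z * (u⁻¹ * (y * u * y⁻¹)) := by rw [← huz]; group
    have hcs : SEl q c := sel_of_mem (CfsgLib.Fitting.pCore_isPGroup q) hcS
    have hcy : y * c = c * y :=
      (h.reg_commute hz (reg_of_sel h.hp hq.1 hq.2.1 hcs) hcz hyz)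
    have hpow : ∀ n : ℕ, y ^ n * u * (y ^ n)⁻¹ = u * c ^ n := by
      intro n
      induction n with
      | zero => simp
      | succ n ih =>
        have e : y ^ (n + 1) * u * (y ^ (n + 1))⁻¹ = y * (y ^ n * u * (y ^ n)⁻¹) * y⁻¹ := by
          rw [pow_succ']; group
        rw [e, ih, pow_succ']
        calc y * (u * c ^ n) * y⁻¹ = y * u * (c ^ n * y⁻¹) := by group
          _ = y * u * (y⁻¹ * c ^ n) := by
            rw [((Commute.inv_left (hcy : Commute y c)).pow_right n).eq]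
          _ = u * (c * c ^ n) := by
            rw [← mul_assoc (y * u), ← mul_assoc u c, show u * c = y * u * y⁻¹ by rw [hc]; group]
    obtain ⟨j, hj⟩ := hys
    have h2 := hpow (r ^ j)
    rw [hj, one_mul, inv_one, mul_one] at h2
    have hc1 : c = 1 := SEl.eq_one hq.1 hr (Ne.symm hrq) hcs ⟨j, mul_eq_left.mp h2.symm⟩
    rw [hc, inv_mul_eq_one] at hc1
    have huy : u ∈ cz y := by
      rw [mem_cz]
      conv_lhs => rw [hc1]
      group
    rwa [h.comm z y hz hyn hyz] at huy
  refine h.normal_false hz fun g => (h.mem_normalizer_iff hz).mpr ?_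
  exact hcore _ ((inferInstance : (Cfsg.pCore q G).Normal).conj_mem _ hzS g)

/-- The case `p = 2`. -/
theorem two_false [Fact p.Prime] (hp2 : p = 2) (hO : Cfsg.pCore p G = ⊥) {r : ℕ}
    (hr : Sig p G r) (hU : ¬ Two G p r) : False := by
  subst hp2
  let P : Sylow 2 G := default
  have htrans : ∀ u : G, NC 2 u → ∀ g : G, ∃ n ∈ Subgroup.normalizer (cz u : Set G),
      ∃ π ∈ (P : Subgroup G), g = π * n := by
    intro u hu g
    set N := Subgroup.normalizer (cz u : Set G) with hN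
    obtain ⟨b, hb⟩ : ∃ b, N.index = 2 ^ b := ⟨_, Nat.eq_prime_pow_of_unique_prime_dvd
      Subgroup.index_ne_zero_of_finite fun {s} hs hsd => by
        by_contra hs2
        exact h.not_dvd_index_normalizer hr hU hu hs hs2 hsd⟩
    have hle : N.index ≤ N.relIndex (P : Subgroup G) := by
      have h1 := CfsgLib.Coprime.relIndex_mul_card_inf N (P : Subgroup G)
      rw [P.card_eq_multiplicity] at h1
      have h2 : Nat.card ↥(N ⊓ (P : Subgroup G)) ≤ 2 ^ (Nat.card N).factorization 2 := by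
        obtain ⟨i, hi⟩ := IsPGroup.iff_card.mp (P.2.to_le (inf_le_right : N ⊓ (P : Subgroup G) ≤ P))
        rw [hi]
        refine Nat.pow_le_pow_right (by norm_num) ?_
        exact (Nat.prime_two.pow_dvd_iff_le_factorization Nat.card_pos.ne').mp
          (hi ▸ Subgroup.card_dvd_of_le inf_le_left)
      have h3 : (Nat.card G).factorization 2 = (Nat.card N).factorization 2 + b := by
        rw [← Subgroup.card_mul_index N, hb,
          Nat.factorization_mul Nat.card_pos.ne' (pow_ne_zero _ two_ne_zero)]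
        simp [Nat.prime_two.factorization_pow]
      rw [h3, pow_add, ← hb] at h1
      by_contra hlt
      push Not at hlt
      have := Nat.mul_lt_mul_of_lt_of_le hlt h2 (by positivity)
      rw [mul_comm (N.index)] at this
      omega
    let f : (P : Subgroup G) ⧸ N.subgroupOf (P : Subgroup G) → G ⧸ N :=
      Quotient.map' (fun w => (w : G)) fun a c hac => by
        rw [QuotientGroup.leftRel_apply] at hac ⊢
        simpa [Subgroup.mem_subgroupOf] using hac
    have hinj : Function.Injective f := by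
      intro a c
      induction a using QuotientGroup.induction_on with
      | _ a =>
        induction c using QuotientGroup.induction_on with
        | _ c =>
          intro hac
          have h' : ((a : G) : G ⧸ N) = ((c : G) : G ⧸ N) := hac
          rw [QuotientGroup.eq] at h'
          exact QuotientGroup.eq.mpr (by simpa [Subgroup.mem_subgroupOf] using h')
    obtain ⟨w, hw⟩ := (hinj.bijective_of_nat_card_le hle).2 (g : G ⧸ N)
    induction w using QuotientGroup.induction_on with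
    | _ w =>
      have h' : ((w : G) : G ⧸ N) = (g : G ⧸ N) := hw
      exact ⟨_, QuotientGroup.eq.mp h', w, w.2, by group⟩
  obtain ⟨u₀, hu₀⟩ := h.exists_nc
  by_cases hPtriv : (P : Subgroup G) = ⊥
  · refine h.normal_false hu₀ fun g => ?_
    obtain ⟨n, hn, π, hπ, rfl⟩ := htrans u₀ hu₀ g
    rw [hPtriv, Subgroup.mem_bot] at hπ
    rwa [hπ, one_mul]
  -- a central involution of the Sylow subgroup
  haveI : Nontrivial (P : Subgroup G) := (Subgroup.nontrivial_iff_ne_bot _).mpr hPtriv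
  haveI := P.2.center_nontrivial
  obtain ⟨k, hk⟩ := IsPGroup.iff_card.mp (P.2.to_subgroup (Subgroup.center (P : Subgroup G)))
  obtain ⟨j₀, hj₀⟩ := exists_prime_orderOf_dvd_card' (G := Subgroup.center (P : Subgroup G)) 2 (by
    rw [hk]
    refine dvd_pow_self 2 fun e => ?_
    rw [e, pow_zero] at hk
    exact (Finite.one_lt_card (α := Subgroup.center (P : Subgroup G))).ne' hk)
  set j : G := ((j₀ : (P : Subgroup G)) : G) with hj
  have hjo : orderOf j = 2 := by rw [hj, Subgroup.orderOf_coe, Subgroup.orderOf_coe, hj₀]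
  have hjP : ∀ π ∈ (P : Subgroup G), π * j * π⁻¹ = j := by
    intro π hπ
    have := congrArg Subtype.val (Subgroup.mem_center_iff.mp j₀.2 ⟨π, hπ⟩)
    rw [show π * j = j * π from this, mul_inv_cancel_right]
  have hj2 : j * j = 1 := by rw [← pow_two, ← hjo, pow_orderOf_eq_one]
  have hjinv : j⁻¹ = j := inv_eq_of_mul_eq_one_right hj2
  obtain ⟨g, hg⟩ := CfsgLib.Baer.exists_conj_not_isPGroup (p := 2) (a := j)
    (isPGroup_zpowers_of_sel ⟨1, by rw [pow_one, pow_two, hj2]⟩) (by
      intro N hN hNp hjN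
      have := CfsgLib.Fitting.le_pCore hN hNp hjN
      rw [hO, Subgroup.mem_bot] at this
      rw [this, orderOf_one] at hjo
      omega)
  set x := j * (g * j * g⁻¹) with hx
  have hxj : j * x * j⁻¹ = x⁻¹ := by
    rw [hx, mul_inv_rev, conj_inv, hjinv, ← mul_assoc, hj2, one_mul]
  have hx2 : ¬ SEl 2 x := by
    intro hxs
    refine hg ?_
    have hnorm : Subgroup.zpowers j ≤ Subgroup.normalizer (Subgroup.zpowers x : Set G) := by
      rw [Subgroup.zpowers_le, Subgroup.mem_normalizer_iff]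
      intro w
      constructor
      · rintro ⟨i, rfl⟩
        exact ⟨-i, by show x ^ (-i) = j * x ^ i * j⁻¹; rw [← conj_zpow, hxj, inv_zpow']⟩
      · rintro ⟨i, hi⟩
        replace hi : x ^ i = j * w * j⁻¹ := hi
        refine ⟨-i, ?_⟩
        have e : j * x ^ (-i) * j⁻¹ = j * w * j⁻¹ := by
          rw [← conj_zpow, hxj, inv_zpow, zpow_neg, inv_inv, hi]
        exact mul_left_cancel (mul_right_cancel e)
    refine (IsPGroup.to_sup_of_normal_left' (isPGroup_zpowers_of_sel hxs)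
      (isPGroup_zpowers_of_sel ⟨1, by rw [pow_one, pow_two, hj2]⟩) hnorm).to_le ?_
    rw [Subgroup.closure_le]
    rintro w (rfl | rfl)
    · exact Subgroup.mem_sup_right (Subgroup.mem_zpowers _)
    · have e : g * j * g⁻¹ = j * x := by rw [hx, ← mul_assoc, hj2, one_mul]
      rw [SetLike.mem_coe, e]
      exact mul_mem (Subgroup.mem_sup_right (Subgroup.mem_zpowers _))
        (Subgroup.mem_sup_left (Subgroup.mem_zpowers _))
  obtain ⟨a, m, hm, hor, hcop, -⟩ := CfsgLib.Transfer.exists_pow_coprime_part (p := 2) x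
  set u := x ^ 2 ^ a with hu
  have hju : j * u * j⁻¹ = u⁻¹ := by rw [hu, ← conj_pow, hxj, inv_pow]
  have hunc : NC 2 u := by
    refine ⟨hcop, fun hc => hx2 ⟨a, ?_⟩⟩
    rw [Subgroup.mem_center_iff.mp hc j, mul_inv_cancel_right] at hju
    have h2 : u ^ 2 = 1 := by rw [pow_two]; exact mul_eq_one_iff_eq_inv.mpr hju
    have h3 := pow_gcd_eq_one.mpr ⟨h2, pow_orderOf_eq_one u⟩
    rwa [show Nat.gcd 2 (orderOf u) = 1 from hcop.symm, pow_one] at h3
  have hjN : j ∈ Subgroup.normalizer (cz u : Set G) := by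
    rw [h.mem_normalizer_iff hunc, hju]
    exact inv_mem (self_mem_cz u)
  set J := Subgroup.normalClosure ({j} : Set G) with hJ
  have hJN : J ≤ Subgroup.normalizer (cz u : Set G) := by
    rw [hJ, Subgroup.normalClosure, Subgroup.closure_le]
    intro w hw
    obtain ⟨b, hb, hc⟩ := Group.mem_conjugatesOfSet_iff.mp hw
    rw [Set.mem_singleton_iff] at hb
    subst hb
    obtain ⟨c, rfl⟩ := isConj_iff.mp hc
    obtain ⟨n, hn, π, hπ, hcn⟩ := htrans u hunc c⁻¹
    have e : c * j * c⁻¹ = n⁻¹ * j * n := by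
      have hc' : c = n⁻¹ * π⁻¹ := by rw [← mul_inv_rev, ← hcn, inv_inv]
      rw [hc', mul_inv_rev, inv_inv, inv_inv]
      calc n⁻¹ * π⁻¹ * j * (π * n) = n⁻¹ * (π⁻¹ * j * π⁻¹⁻¹) * n := by group
        _ = n⁻¹ * j * n := by rw [hjP _ (inv_mem hπ)]
    rw [SetLike.mem_coe, e]
    exact mul_mem (mul_mem (inv_mem hn) hjN) hn
  have hJall : ∀ v : G, NC 2 v → J ≤ Subgroup.normalizer (cz v : Set G) := by
    intro v hv y hy
    obtain ⟨c, hc⟩ := h.one_class hr hU hunc hv
    have h1 := hJN ((Subgroup.normalClosure_normal (s := ({j} : Set G))).conj_mem y hy c⁻¹)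
    rw [h.mem_normalizer_iff hunc, inv_inv] at h1
    rw [hc, h.mem_normalizer_iff (hunc.conj c), mem_cz_conj]
    simpa [mul_assoc] using h1
  have hjJ : j ∈ J := Subgroup.subset_normalClosure rfl
  have huJ : u ∈ J :=
    pow_mem (mul_mem hjJ ((Subgroup.normalClosure_normal (s := ({j} : Set G))).conj_mem j hjJ g)) _
  obtain ⟨q, hq, hqp, k', hxn, hxs⟩ := hunc.exists_prime_part h.hp
  set w := u ^ k' with hw
  have hwJ : w ∈ J := pow_mem huJ _
  obtain ⟨v, hv, hvw⟩ : ∃ v, NC 2 v ∧ cz v ≠ cz w := by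
    by_contra hall
    push Not at hall
    refine h.normal_false hxn fun c => (h.mem_normalizer_iff hxn).mpr ?_
    rw [← hall _ (hxn.conj c)]
    exact self_mem_cz _
  obtain ⟨r', hr', hr'p, hr'q, hrho⟩ := h.exists_rho_ne q
  obtain ⟨y, hy, hyc⟩ := h.exists_mem_tp hr' hr'p hrho hv
  have hwv : w ∉ cz v := fun hm => hvw (h.comm v w hv hxn hm).symm
  have hwN := hJall v hv hwJ
  set d := w * y * w⁻¹ * y⁻¹ with hd
  have hdT : d ∈ tp r' v := mul_mem (h.tp_conj_mem hr' hr'p hv hwN hy) (inv_mem hy)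
  have hdJ : d ∈ J := by
    have e : d = w * (y * w⁻¹ * y⁻¹) := by rw [hd]; group
    rw [e]
    exact mul_mem hwJ
      ((Subgroup.normalClosure_normal (s := ({j} : Set G))).conj_mem _ (inv_mem hwJ) y)
  have hdc : d ∉ Subgroup.center G := fun hc =>
    hyc (h.fpf hq hr' hr'p (Ne.symm hr'q) hv hwN hwv hxs hy hc)
  obtain ⟨c, hc⟩ := h.one_class hr hU hv hxn
  set y' := c * d * c⁻¹ with hy'
  have hys' : SEl r' y' := ((h.mem_tp hr' hr'p hv).mp hdT).2.conj c
  have hyw : y' ∈ cz w := by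
    rw [hc, mem_cz_conj, hy']
    simpa [mul_assoc] using tp_le r' v hdT
  have hyJ : y' ∈ J := (Subgroup.normalClosure_normal (s := ({j} : Set G))).conj_mem d hdJ c
  have hyn : NC 2 y' := h.ncOf hr' hr'p hys' fun hm => hdc (conj_mem_center hm)
  refine h.commute_false hq hqp hr' hr'p (Ne.symm hr'q) hv hwN hwv hxs (hJall v hv hyJ) ?_ hys'
    (mem_cz.mp hyw).symm
  intro hm
  exact hvw ((h.comm v y' hv hyn hm).symm.trans (h.comm w y' hxn hyn hyw))

/-- An even deficient prime, `p` odd. -/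
theorem invol_false (hS2 : Sig p G 2) {r : ℕ} (hrS : Sig p G r) (hr2 : r ≠ 2)
    {s : ℕ} (hs : Sig p G s) (hU : ¬ Two G p s) : False := by
  classical
  haveI := Fact.mk hrS.1
  obtain ⟨u, hu⟩ := h.exists_nc
  have hp2 : (2 : ℕ) ≠ p := hS2.2.1
  set α := h.wAct hrS.1 hrS.2.1 hu with hα
  have hcenfix : ∀ (e : Wq u) (x : tp r u), (x : G) ∈ Subgroup.center G → α e x = x := by
    intro e x hx
    obtain ⟨g, rfl⟩ := QuotientGroup.mk'_surjective _ e
    refine Subtype.ext ?_
    show (g : G) * x * (g : G)⁻¹ = x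
    rw [Subgroup.mem_center_iff.mp hx (g : G), mul_inv_cancel_right]
  let Ker : Subgroup (Wq u) :=
    { carrier := {e | ∀ x : tp r u, ((α e x * x⁻¹ : tp r u) : G) ∈ Subgroup.center G}
      one_mem' := fun x => by simp
      mul_mem' := fun {a b} ha hb x => by
        have e : α (a * b) x * x⁻¹ = (α a (α b x) * (α b x)⁻¹) * (α b x * x⁻¹) := by
          rw [map_mul, MulAut.mul_apply, mul_assoc, inv_mul_cancel_left]
        rw [e, Subgroup.coe_mul]
        exact mul_mem (ha _) (hb x)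
      inv_mem' := fun {a} ha x => by
        have h1 := ha (α a⁻¹ x)
        rw [← MulAut.mul_apply, ← map_mul, mul_inv_cancel, map_one, MulAut.one_apply] at h1
        have h2 := inv_mem h1
        push_cast at h2 ⊢
        simpa using h2 }
  haveI hKn : Ker.Normal := ⟨fun a ha b x => by
    have h1 : ((α a (α b⁻¹ x) * (α b⁻¹ x)⁻¹ : tp r u) : G) ∈ Subgroup.center G := ha (α b⁻¹ x)
    have h2 := hcenfix b _ h1
    have hx : α b (α b⁻¹ x) = x := by
      rw [← MulAut.mul_apply, ← map_mul, mul_inv_cancel, map_one, MulAut.one_apply]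
    have e : α (b * a * b⁻¹) x * x⁻¹ = α b (α a (α b⁻¹ x) * (α b⁻¹ x)⁻¹) := by
      rw [map_mul (α b), map_inv (α b), hx, map_mul α, map_mul α, MulAut.mul_apply,
        MulAut.mul_apply]
    rw [e, h2]
    exact h1⟩
  have hrho : Rho G r := h.rho_of_sig hrS hu
  -- prime divisors of the kernel
  have hKer : ∀ t : ℕ, t.Prime → t ∣ Nat.card Ker → t = r ∨ t = p := by
    intro t ht htd
    haveI := Fact.mk ht
    by_contra hne
    push Not at hne
    obtain ⟨e, he⟩ := exists_prime_orderOf_dvd_card' (G := Ker) t htd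
    rw [← Subgroup.orderOf_coe] at he
    obtain ⟨y, hy, hyc⟩ := h.exists_mem_tp hrS.1 hrS.2.1 hrho hu
    refine hyc (h.wAct_fpf ht hrS.1 hrS.2.1 hne.1 hu (e := (e : Wq u))
      ⟨1, by rw [pow_one, ← he, pow_orderOf_eq_one]⟩
      (fun hh => ht.ne_one (by rw [← he, hh, orderOf_one])) (x := ⟨y, hy⟩) ?_)
    simpa using e.2 ⟨y, hy⟩
  have hinv : ∀ e : Wq u, orderOf e = 2 → ∀ x : tp r u,
      ((α e x * x : tp r u) : G) ∈ Subgroup.center G := by
    intro e he x
    letI := h.tpCommGroup hrS.1 hrS.2.1 hu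
    refine h.wAct_fpf Nat.prime_two hrS.1 hrS.2.1 (Ne.symm hr2) hu (e := e)
      ⟨1, by rw [pow_one, ← he, pow_orderOf_eq_one]⟩
      (fun hh => by rw [hh, orderOf_one] at he; omega) (x := α e x * x) ?_
    have e2 : e * e = 1 := by rw [← pow_two, ← he, pow_orderOf_eq_one]
    have e1 : α e (α e x * x) = α e x * x := by
      rw [map_mul, ← MulAut.mul_apply, ← map_mul, e2, map_one, MulAut.one_apply, mul_comm]
    rw [e1, mul_inv_cancel]
    exact one_mem _
  have hprod : ∀ a b : Wq u, orderOf a = 2 → orderOf b = 2 → a * b ∈ Ker := by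
    intro a b ha hb x
    letI := h.tpCommGroup hrS.1 hrS.2.1 hu
    have h2 : α (a * b) x = (α b x * x) * (α a x⁻¹) := by
      have h1 := hcenfix a _ (hinv b hb x)
      rw [map_mul] at h1
      rw [← h1, map_mul, MulAut.mul_apply, map_inv, mul_assoc, mul_inv_cancel, mul_one]
    have h3 : α (a * b) x * x⁻¹ = (α b x * x) * (α a x * x)⁻¹ := by
      rw [h2, map_inv (α a), mul_inv_rev, mul_assoc _ ((α a x)⁻¹) x⁻¹,
        mul_comm ((α a x)⁻¹) x⁻¹]
    rw [h3, Subgroup.coe_mul, Subgroup.coe_inv]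
    exact mul_mem (hinv b hb x) (inv_mem (hinv a ha x))
  have h2W := h.dvd_card_wq hs hU hu hS2
  have hrW := h.dvd_card_wq hs hU hu hrS
  have h2K : ¬ 2 ∣ Nat.card Ker := fun hd => by
    rcases hKer 2 Nat.prime_two hd with e | e
    · exact hr2 e.symm
    · exact hp2 e
  by_cases hrK : r ∣ Nat.card Ker
  · let R₀ : Sylow r Ker := default
    set E := (R₀ : Subgroup Ker).map Ker.subtype with hE
    have hsup : Subgroup.normalizer (E : Set (Wq u)) ⊔ Ker = ⊤ := Sylow.normalizer_sup_eq_top R₀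
    have hcard := CfsgLib.Coprime.card_sup_mul_card_inf (K := Ker)
      (S := Subgroup.normalizer (E : Set (Wq u))) Subgroup.le_normalizer_of_normal
    rw [sup_comm, hsup, Subgroup.card_top] at hcard
    have h2N : 2 ∣ Nat.card (Subgroup.normalizer (E : Set (Wq u))) :=
      ((Nat.prime_two.dvd_mul.mp (hcard ▸ h2W.mul_right _)).resolve_left h2K)
    obtain ⟨w, hw⟩ := exists_prime_orderOf_dvd_card'
      (G := Subgroup.normalizer (E : Set (Wq u))) 2 h2N
    refine h.pair_false hrS.1 hrS.2.1 Nat.prime_two hp2 hr2 hu E (R₀.2.map _) ?_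
      (w := (w : Wq u)) (by rw [Subgroup.orderOf_coe, hw]) (fun e he =>
        (Subgroup.mem_normalizer_iff.mp w.2 e).mp he)
    intro hbot
    rw [hE, Subgroup.map_eq_bot_iff_of_injective _ Ker.subtype_injective] at hbot
    exact R₀.ne_bot_of_dvd_card hrK hbot
  · obtain ⟨ν, hν⟩ := exists_prime_orderOf_dvd_card' (G := Wq u) 2 h2W
    set C := Subgroup.centralizer ({ν} : Set (Wq u)) with hC
    have hsup : Ker ⊔ C = ⊤ := by
      rw [eq_top_iff]
      intro g _
      set ν' := g * ν * g⁻¹ with hν'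
      have hν'o : orderOf ν' = 2 := by rw [hν', CfsgLib.Transfer.orderOf_conj, hν]
      have hsame : Ker ⊔ Subgroup.zpowers ν = Ker ⊔ Subgroup.zpowers ν' := by
        have hk : ν' * ν ∈ Ker := hprod _ _ hν'o hν
        have hνsq : ν * ν = 1 := by rw [← pow_two, ← hν, pow_orderOf_eq_one]
        refine le_antisymm (sup_le le_sup_left (Subgroup.zpowers_le.mpr ?_))
          (sup_le le_sup_left (Subgroup.zpowers_le.mpr ?_))
        · have e : ν = ν'⁻¹ * (ν' * ν) := by group
          rw [e]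
          exact mul_mem (inv_mem (Subgroup.mem_sup_right (Subgroup.mem_zpowers _)))
            (Subgroup.mem_sup_left hk)
        · have e : ν' = (ν' * ν) * ν := by rw [mul_assoc, hνsq, mul_one]
          rw [e]
          exact mul_mem (Subgroup.mem_sup_left hk)
            (Subgroup.mem_sup_right (Subgroup.mem_zpowers _))
      have hcop : (Nat.card Ker).Coprime 2 :=
        (Nat.prime_two.coprime_iff_not_dvd.mpr h2K).symm
      obtain ⟨k, hk, hke⟩ := CfsgLib.Coprime.exists_conj_of_coprime (N := Ker)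
        (H := Subgroup.zpowers ν) (K := Subgroup.zpowers ν') Subgroup.le_normalizer_of_normal
        (by rw [Nat.card_zpowers, hν]; exact hcop) (by rw [Nat.card_zpowers, hν'o]; exact hcop)
        hsame (Or.inr inferInstance)
      have h1 : k * ν * k⁻¹ ∈ Subgroup.zpowers ν' := by
        rw [← hke]
        exact CfsgLib.Coprime.conj_mem_conj_smul (Subgroup.mem_zpowers ν)
      obtain ⟨i, hi⟩ := h1
      have hkν : k * ν * k⁻¹ = ν' := by
        rcases Int.emod_two_eq_zero_or_one i with h0 | h0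
        · exfalso
          have : k * ν * k⁻¹ = 1 := by
            rw [← hi]
            show ν' ^ i = 1
            rw [← zpow_mod_orderOf, hν'o, Nat.cast_ofNat, h0, zpow_zero]
          rw [conj_eq_one_iff] at this
          rw [this, orderOf_one] at hν
          omega
        · rw [← hi]
          show ν' ^ i = ν'
          rw [← zpow_mod_orderOf, hν'o, Nat.cast_ofNat, h0, zpow_one]
      have hkg : k⁻¹ * g ∈ C := by
        rw [hC, Subgroup.mem_centralizer_singleton_iff]
        rw [hν'] at hkν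
        calc k⁻¹ * g * ν = k⁻¹ * (g * ν * g⁻¹) * g := by group
          _ = k⁻¹ * (k * ν * k⁻¹) * g := by rw [hkν]
          _ = ν * (k⁻¹ * g) := by group
      rw [show g = k * (k⁻¹ * g) by group]
      exact mul_mem (Subgroup.mem_sup_left hk) (Subgroup.mem_sup_right hkg)
    have hcard := CfsgLib.Coprime.card_sup_mul_card_inf (K := Ker) (S := C)
      Subgroup.le_normalizer_of_normal
    rw [hsup, Subgroup.card_top] at hcard
    obtain ⟨w, hw⟩ := exists_prime_orderOf_dvd_card' (G := C) r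
      ((hrS.1.dvd_mul.mp (hcard ▸ hrW.mul_right _)).resolve_left hrK)
    rw [← Subgroup.orderOf_coe] at hw
    have hνr : SEl 2 ν := ⟨1, by rw [pow_one, ← hν, pow_orderOf_eq_one]⟩
    have hwr : SEl r (w : Wq u) := ⟨1, by rw [pow_one, ← hw, pow_orderOf_eq_one]⟩
    exact h.commute_wq_false Nat.prime_two hp2 hrS.1 hrS.2.1 (Ne.symm hr2) hu hνr
      (fun hh => by rw [hh, orderOf_one] at hν; omega) hwr
      (fun hh => hrS.1.ne_one (by rw [← hw, hh, orderOf_one]))
      (Subgroup.mem_centralizer_singleton_iff.mp w.2).symm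

/-- All deficient primes odd, `p` odd. -/
theorem odd_false (hp2 : p ≠ 2) (hS2 : ¬ Sig p G 2) {q r : ℕ} (hqr : q ≠ r) (hq : Sig p G q)
    (hr : Sig p G r) {s : ℕ} (hs : Sig p G s) (hU : ¬ Two G p s) : False := by
  classical
  obtain ⟨u, hu⟩ := h.exists_nc
  have hodd : Odd (Nat.card (Wq u)) := by
    rw [← Nat.not_even_iff_odd, even_iff_two_dvd]
    intro hd
    refine h.not_dvd_of_not_sig Nat.prime_two (Ne.symm hp2) hS2 hu ?_
    rw [← Subgroup.relIndex_mul_index (Subgroup.le_normalizer (H := cz u))]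
    exact hd.mul_right _
  haveI : Group.IsSolvable (Wq u) := CfsgLib.OddOrder.odd_order_solvable hodd
  set n := Nat.card (Wq u) with hn
  set m := q ^ n.factorization q * r ^ n.factorization r with hm
  have hcqr := (Nat.coprime_primes hq.1 hr.1).mpr hqr
  have hmn : m ∣ n := Nat.Coprime.mul_dvd_of_dvd_of_dvd (hcqr.pow _ _)
    (Nat.ordProj_dvd n q) (Nat.ordProj_dvd n r)
  have hn0 : n ≠ 0 := Nat.card_pos.ne'
  have hcop : m.Coprime (n / m) := by
    have aux : ∀ t : ℕ, t.Prime → t ^ n.factorization t ∣ m → t.Coprime (n / m) := by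
      intro t ht htm
      rw [ht.coprime_iff_not_dvd]
      intro hd
      have h1 : t ^ (n.factorization t + 1) ∣ n := by
        rw [pow_succ]
        exact (Nat.mul_dvd_mul htm hd).trans (dvd_of_eq (Nat.mul_div_cancel' hmn))
      have := (ht.pow_dvd_iff_le_factorization hn0).mp h1
      omega
    exact Nat.Coprime.mul_left ((aux q hq.1 (dvd_mul_right _ _)).pow_left _)
      ((aux r hr.1 (dvd_mul_left _ _)).pow_left _)
  obtain ⟨H, hH⟩ := CfsgLib.Hall.exists_hall (G := Wq u) (Nat.mul_div_cancel' hmn).symm hcop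
  have hqm : q ∣ m := (dvd_pow_self q (Nat.one_le_iff_ne_zero.mp
    ((hq.1.dvd_iff_one_le_factorization hn0).mp (h.dvd_card_wq hs hU hu hq)))).mul_right _
  have hrm : r ∣ m := (dvd_pow_self r (Nat.one_le_iff_ne_zero.mp
    ((hr.1.dvd_iff_one_le_factorization hn0).mp (h.dvd_card_wq hs hU hu hr)))).mul_left _
  haveI : Nontrivial H := by
    rw [← Finite.one_lt_card_iff_nontrivial, hH]
    exact lt_of_lt_of_le hq.1.one_lt (Nat.le_of_dvd (hH ▸ Nat.card_pos) hqm)
  obtain ⟨t, ht, N, hN, hN1, hNp, -⟩ := CfsgLib.Hall.exists_normal_pgroup_ne_bot (G := H)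
  haveI := Fact.mk ht
  have htd : t ∣ m := by
    obtain ⟨k, hk⟩ := IsPGroup.iff_card.mp hNp
    rcases Nat.eq_zero_or_pos k with rfl | hk0
    · exact absurd (Subgroup.card_eq_one.mp (by rwa [pow_zero] at hk)) hN1
    · exact hH ▸ ((dvd_pow_self t hk0.ne').trans (hk ▸ Subgroup.card_subgroup_dvd_card N))
  have key : ∀ t' : ℕ, Sig p G t → Sig p G t' → t ≠ t' → t' ∣ m → False := by
    intro t' h1 h2 hne hd
    haveI := Fact.mk h2.1
    obtain ⟨w, hw⟩ := exists_prime_orderOf_dvd_card' (G := H) t' (hH ▸ hd)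
    refine h.pair_false ht h1.2.1 h2.1 h2.2.1 hne hu (N.map H.subtype) (hNp.map _)
      (by rwa [Ne, Subgroup.map_eq_bot_iff_of_injective _ H.subtype_injective])
      (w := (w : Wq u)) (by rw [Subgroup.orderOf_coe, hw]) ?_
    rintro _ ⟨e, he, rfl⟩
    exact ⟨w * e * w⁻¹, hN.conj_mem e he w, rfl⟩
  rcases ht.dvd_mul.mp htd with h1 | h1
  · obtain rfl := (Nat.prime_dvd_prime_iff_eq ht hq.1).mp (ht.dvd_of_dvd_pow h1)
    exact key r hq hr hqr hrm
  · obtain rfl := (Nat.prime_dvd_prime_iff_eq ht hr.1).mp (ht.dvd_of_dvd_pow h1)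
    exact key q hr hq hqr.symm hqm

/-- The configuration is impossible when `O_p(G) = 1`. -/
theorem false_of_pCore (hO : Cfsg.pCore p G = ⊥) : False := by
  haveI := Fact.mk h.hp
  obtain ⟨q, hq⟩ := h.exists_sig
  by_cases hone : ∀ s, Sig p G s → s = q
  · exact h.single_false hO hq hone
  push Not at hone
  obtain ⟨r, hr, hrq⟩ := hone
  obtain ⟨s, hs, hU⟩ : ∃ s, Sig p G s ∧ ¬ Two G p s := by
    rcases h.exists_unique_prime (Ne.symm hrq) hq hr with h1 | h1
    · exact ⟨q, hq, h1⟩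
    · exact ⟨r, hr, h1⟩
  by_cases hp2 : p = 2
  · exact h.two_false hp2 hO hs hU
  by_cases hS2 : Sig p G 2
  · by_cases hq2 : q = 2
    · exact h.invol_false hS2 hr (fun e => hrq (e.trans hq2.symm)) hs hU
    · exact h.invol_false hS2 hq hq2 hs hU
  · exact h.odd_false hp2 hS2 (Ne.symm hrq) hq hr hs hU

end Cfg

end CfsgLib.TwoPReg
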