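import Cfsg.Agent.Lib.TwoPReg.Basic

/-!
The quotient `N(C)/C` of the normalizer of a centralizer has no nilpotent or Frobenius subgroups
for two distinct primes different from `p`.
-/

set_option autoImplicit false
set_option linter.style.haveILetI false
set_option linter.unusedSectionVars false

namespace CfsgLib.TwoPReg

section Sum

variable {W T : Type*} [Group W] [CommGroup T]

theorem pow_card_mem (α : W →* MulAut T) (Z : Subgroup T) (E : Subgroup W) [Fintype E] {w : W}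
    {t : ℕ} (ht : 0 < t) (hnorm : ∀ e ∈ E, w * e * w⁻¹ ∈ E)
    (hfree : ∀ j, 0 < j → j < t → ∀ e ∈ E, w ^ j * e = e * w ^ j → e = 1)
    (hfix : ∀ x : T, (∀ e ∈ E, α e x = x) → x ∈ Z)
    (hN : ∀ e ∈ E, ∀ x : T, (∏ j ∈ Finset.range t, α ((e * w * e⁻¹) ^ j) x) ∈ Z) (x : T) :
    x ^ Fintype.card E ∈ Z := by
  classical
  let P : T → T := fun y => ∏ e : E, α (e : W) y
  have hP : ∀ y, P y ∈ Z := fun y => by
    refine hfix _ fun e₀ he₀ => ?_
    show α e₀ (∏ e : E, α (e : W) y) = ∏ e : E, α (e : W) y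
    rw [map_prod]
    refine Fintype.prod_equiv (Equiv.mulLeft (⟨e₀, he₀⟩ : E)) _ _ fun e => ?_
    rw [Equiv.coe_mulLeft, Subgroup.coe_mul, map_mul, MulAut.mul_apply]
  have hpow : ∀ j : ℕ, ∀ e ∈ E, w ^ j * e * (w ^ j)⁻¹ ∈ E := by
    intro j
    induction j with
    | zero => intro e he; simpa using he
    | succ j ih =>
      intro e he
      have h := hnorm _ (ih e he)
      rw [pow_succ']
      convert h using 1
      group
  have key : ∀ j ∈ Finset.range t, j ≠ 0 →
      (∏ e : E, α (((e : W) * w * (e : W)⁻¹) ^ j) x) ∈ Z := by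
    intro j hj hj0
    let φ : E → E := fun e => ⟨(e : W) * (w ^ j * (e : W)⁻¹ * (w ^ j)⁻¹),
      mul_mem e.2 (hpow j _ (inv_mem e.2))⟩
    have hinj : Function.Injective φ := by
      intro a b hab
      have h1 : (a : W) * (w ^ j * (a : W)⁻¹ * (w ^ j)⁻¹) =
          (b : W) * (w ^ j * (b : W)⁻¹ * (w ^ j)⁻¹) := congrArg Subtype.val hab
      have h2 : w ^ j * ((b : W)⁻¹ * a) = ((b : W)⁻¹ * a) * w ^ j := by
        calc w ^ j * ((b : W)⁻¹ * a)
            = (b : W)⁻¹ * ((b : W) * (w ^ j * (b : W)⁻¹ * (w ^ j)⁻¹)) * w ^ j * a := by group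
          _ = (b : W)⁻¹ * ((a : W) * (w ^ j * (a : W)⁻¹ * (w ^ j)⁻¹)) * w ^ j * a := by rw [h1]
          _ = ((b : W)⁻¹ * a) * w ^ j := by group
      have h3 := hfree j (Nat.pos_of_ne_zero hj0) (Finset.mem_range.mp hj) _
        (mul_mem (inv_mem b.2) a.2) h2
      exact Subtype.ext (inv_mul_eq_one.mp h3).symm
    have hbij : Function.Bijective φ := Finite.injective_iff_bijective.mp hinj
    have e1 : (∏ e : E, α (((e : W) * w * (e : W)⁻¹) ^ j) x) = P (α (w ^ j) x) := by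
      refine Fintype.prod_bijective φ hbij _ _ fun e => ?_
      rw [← MulAut.mul_apply, ← map_mul]
      refine congrArg (fun z => α z x) ?_
      show ((e : W) * w * (e : W)⁻¹) ^ j = (e : W) * (w ^ j * (e : W)⁻¹ * (w ^ j)⁻¹) * w ^ j
      rw [conj_pow]
      group
    rw [e1]
    exact hP _
  have h0 : (∏ e : E, ∏ j ∈ Finset.range t, α (((e : W) * w * (e : W)⁻¹) ^ j) x) ∈ Z :=
    Subgroup.prod_mem _ fun e _ => hN e e.2 x
  rw [Finset.prod_comm, ← Finset.mul_prod_erase _ _ (Finset.mem_range.mpr ht)] at h0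
  have h1 : (∏ j ∈ (Finset.range t).erase 0,
      ∏ e : E, α (((e : W) * w * (e : W)⁻¹) ^ j) x) ∈ Z :=
    Subgroup.prod_mem _ fun j hj => key j (Finset.mem_of_mem_erase hj) (Finset.ne_of_mem_erase hj)
  have h2 := (Subgroup.mul_mem_cancel_right _ h1).mp h0
  simpa using h2

end Sum

variable {G : Type*} [Group G] [Finite G] {p : ℕ}

/-- The quotient of the normalizer of a centralizer by it. -/
abbrev Wq (u : G) : Type _ :=
  Subgroup.normalizer (cz u : Set G) ⧸ (cz u).subgroupOf (Subgroup.normalizer (cz u : Set G))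

abbrev wq (u : G) : Subgroup.normalizer (cz u : Set G) →* Wq u :=
  QuotientGroup.mk' ((cz u).subgroupOf (Subgroup.normalizer (cz u : Set G)))

theorem wq_eq_one {u : G} {g : Subgroup.normalizer (cz u : Set G)} :
    wq u g = 1 ↔ (g : G) ∈ cz u := by
  rw [QuotientGroup.mk'_apply, QuotientGroup.eq_one_iff, Subgroup.mem_subgroupOf]

theorem coe_sel {u : G} {g : Subgroup.normalizer (cz u : Set G)} {s : ℕ} (h : SEl s g) :
    SEl s (g : G) := by
  obtain ⟨k, hk⟩ := h
  exact ⟨k, congrArg Subtype.val hk⟩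

/-- A preimage of an element of prime power order has a power that is a preimage of prime power
order. -/
theorem exists_lift {H M : Type*} [Group H] [Finite H] [Group M] (f : H →* M) {g : H} {s : ℕ}
    (hs : s.Prime) {c : ℕ} (he : SEl s (f g ^ c)) : ∃ b : ℕ, SEl s (g ^ b) ∧ f (g ^ b) = f g ^ c := by
  haveI := Fact.mk hs
  obtain ⟨a, m, hm, -, -, hor⟩ := CfsgLib.Transfer.exists_pow_coprime_part (p := s) (g ^ c)
  obtain ⟨k, hk⟩ := he
  have hcop : m.Coprime (orderOf (f g ^ c)) := by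
    refine Nat.Coprime.coprime_dvd_right (orderOf_dvd_of_pow_eq_one hk) ?_
    exact ((hs.coprime_iff_not_dvd.mpr hm).symm).pow_right k
  obtain ⟨i, hi⟩ := exists_pow_eq_self_of_coprime hcop
  refine ⟨c * m * i, ?_, ?_⟩
  · rw [pow_mul, pow_mul]
    exact SEl.pow ⟨a, by rw [← hor, pow_orderOf_eq_one]⟩ i
  · rw [pow_mul, pow_mul, map_pow, map_pow, map_pow]
    exact hi

namespace Cfg

variable (h : Cfg p G)
include h

theorem exists_lift_wq {u : G} {s : ℕ} (hs : s.Prime) {e : Wq u} (he : SEl s e) :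
    ∃ g : Subgroup.normalizer (cz u : Set G), SEl s (g : G) ∧ wq u g = e := by
  have _ := h
  obtain ⟨g, rfl⟩ := QuotientGroup.mk'_surjective _ e
  obtain ⟨b, hb, hb'⟩ := exists_lift (wq u) (g := g) (c := 1) hs (by rw [pow_one]; exact he)
  exact ⟨g ^ b, coe_sel hb, by rw [hb', pow_one]⟩

theorem commute_wq_false {q r : ℕ} (hq : q.Prime) (hqp : q ≠ p) (hr : r.Prime) (hrp : r ≠ p)
    (hqr : q ≠ r) {u : G} (hu : NC p u) {e w : Wq u} (he : SEl q e) (he1 : e ≠ 1) (hw : SEl r w)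
    (hw1 : w ≠ 1) (hc : Commute e w) : False := by
  obtain ⟨g, hg⟩ := QuotientGroup.mk'_surjective _ (e * w)
  obtain ⟨a, ha⟩ := he
  obtain ⟨b, hb⟩ := hw
  have hcop : (r ^ b).Coprime (orderOf e) := Nat.Coprime.coprime_dvd_right
    (orderOf_dvd_of_pow_eq_one ha) (Nat.Coprime.pow b a ((Nat.coprime_primes hr hq).mpr hqr.symm))
  have hcop' : (q ^ a).Coprime (orderOf w) := Nat.Coprime.coprime_dvd_right
    (orderOf_dvd_of_pow_eq_one hb) (Nat.Coprime.pow a b ((Nat.coprime_primes hq hr).mpr hqr))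
  obtain ⟨i, hi⟩ := exists_pow_eq_self_of_coprime hcop
  obtain ⟨j, hj⟩ := exists_pow_eq_self_of_coprime hcop'
  have hei : wq u g ^ (r ^ b * i) = e := by
    rw [hg, pow_mul, hc.mul_pow, hb, mul_one, hi]
  have hwj : wq u g ^ (q ^ a * j) = w := by
    rw [hg, pow_mul, hc.mul_pow, ha, one_mul, hj]
  obtain ⟨c, hcs, hce⟩ := exists_lift (wq u) (g := g) (c := r ^ b * i) hq (by rw [hei]; exact ⟨a, ha⟩)
  obtain ⟨d, hds, hde⟩ := exists_lift (wq u) (g := g) (c := q ^ a * j) hr (by rw [hwj]; exact ⟨b, hb⟩)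
  refine h.commute_false hq hqp hr hrp hqr hu (g ^ c).2 ?_ (coe_sel hcs) (g ^ d).2 ?_
    (coe_sel hds) ?_
  · exact fun hm => he1 (by rw [← hei, ← hce, wq_eq_one]; exact hm)
  · exact fun hm => hw1 (by rw [← hwj, ← hde, wq_eq_one]; exact hm)
  · rw [← Subgroup.coe_mul, ← Subgroup.coe_mul, ← pow_add, ← pow_add, add_comm]

omit h in
/-- The `s`-elements of a centralizer as a commutative group. -/
@[reducible] def tpCommGroup (h : Cfg p G) {s : ℕ} (hs : s.Prime) (hsp : s ≠ p) {u : G}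
    (hu : NC p u) : CommGroup (tp s u) :=
  { (inferInstance : Group (tp s u)) with
    mul_comm := fun a b => Subtype.ext (h.tp_comm hs hsp hu b.2 (tp_le s u a.2)) }

/-- Conjugation by the normalizer on the `s`-elements. -/
def tpAct {s : ℕ} (hs : s.Prime) (hsp : s ≠ p) {u : G} (hu : NC p u) :
    Subgroup.normalizer (cz u : Set G) →* MulAut (tp s u) where
  toFun g :=
    { toFun := fun x => ⟨(g : G) * x * (g : G)⁻¹, h.tp_conj_mem hs hsp hu g.2 x.2⟩
      invFun := fun x => ⟨(g : G)⁻¹ * x * g, by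
        simpa using h.tp_conj_mem hs hsp hu (inv_mem g.2) x.2⟩
      left_inv := fun x => Subtype.ext (by simp [mul_assoc])
      right_inv := fun x => Subtype.ext (by simp [mul_assoc])
      map_mul' := fun x y => Subtype.ext (by simp [mul_assoc]) }
  map_one' := MulEquiv.ext fun x => Subtype.ext (by simp)
  map_mul' a b := MulEquiv.ext fun x => Subtype.ext (by simp [MulAut.mul_apply, mul_assoc])

/-- The action of the quotient on the `s`-elements. -/
def wAct {s : ℕ} (hs : s.Prime) (hsp : s ≠ p) {u : G} (hu : NC p u) :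
    Wq u →* MulAut (tp s u) :=
  QuotientGroup.lift _ (h.tpAct hs hsp hu) (by
    intro g hg
    rw [Subgroup.mem_subgroupOf] at hg
    refine MulEquiv.ext fun x => Subtype.ext ?_
    show (g : G) * x * (g : G)⁻¹ = x
    rw [h.tp_comm hs hsp hu x.2 hg, mul_inv_cancel_right])

theorem wAct_apply {s : ℕ} (hs : s.Prime) (hsp : s ≠ p) {u : G} (hu : NC p u)
    (g : Subgroup.normalizer (cz u : Set G)) (x : tp s u) :
    ((h.wAct hs hsp hu (wq u g) x : tp s u) : G) = (g : G) * x * (g : G)⁻¹ := rfl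

theorem wAct_fpf {q r : ℕ} (hq : q.Prime) (hr : r.Prime) (hrp : r ≠ p) (hqr : q ≠ r) {u : G}
    (hu : NC p u) {e : Wq u} (he : SEl q e) (he1 : e ≠ 1) {x : tp r u}
    (hx : ((h.wAct hr hrp hu e x : tp r u) : G) * (x : G)⁻¹ ∈ Subgroup.center G) :
    (x : G) ∈ Subgroup.center G := by
  obtain ⟨g, hgs, rfl⟩ := h.exists_lift_wq hq he
  exact h.fpf hq hr hrp hqr hu g.2 (fun hm => he1 (wq_eq_one.mpr hm)) hgs x.2
    (by rwa [wAct_apply] at hx)

theorem norm_mem_center {r : ℕ} (hr : r.Prime) (hrp : r ≠ p) {u : G} (hu : NC p u) {w : Wq u}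
    (hw : w ^ r = 1) (hw1 : w ≠ 1) (x : tp r u) :
    letI := h.tpCommGroup hr hrp hu
    ((∏ j ∈ Finset.range r, h.wAct hr hrp hu (w ^ j) x : tp r u) : G) ∈ Subgroup.center G := by
  letI := h.tpCommGroup hr hrp hu
  obtain ⟨g, hgs, rfl⟩ := h.exists_lift_wq hr (e := w) ⟨1, by rwa [pow_one]⟩
  have hgout : (g : G) ∉ cz u := fun hm => hw1 (wq_eq_one.mpr hm)
  -- elements of order a power of `r` outside, with `r`-th power inside, have central `r`-th power
  have hcen : ∀ y : G, y ∈ Subgroup.normalizer (cz u : Set G) → y ∉ cz u → SEl r y →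
      y ^ r ∈ cz u → y ^ r ∈ Subgroup.center G := by
    intro y _ hyo hys hyr
    by_contra hc
    refine hyo ?_
    rw [← h.comm u _ hu (h.ncOf hr hrp (hys.pow r) hc) hyr, mem_cz, ← pow_succ, ← pow_succ']
  have hgr : (g : G) ^ r ∈ cz u := by
    have : wq u (g ^ r) = 1 := by rw [map_pow, hw]
    simpa using wq_eq_one.mp this
  have hxN : (x : G) ∈ Subgroup.normalizer (cz u : Set G) :=
    Subgroup.le_normalizer (tp_le r u x.2)
  have hprod : ∀ n : ℕ, ((x : G) * g) ^ n =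
      ((∏ j ∈ Finset.range n, h.wAct hr hrp hu (wq u g ^ j) x : tp r u) : G) * (g : G) ^ n := by
    intro n
    induction n with
    | zero => simp
    | succ n ih =>
      rw [pow_succ, ih, Finset.prod_range_succ, Subgroup.coe_mul, ← map_pow (wq u), wAct_apply,
        pow_succ (g : G), Subgroup.coe_pow]
      group
  have hsel : SEl r ((x : G) * g) := by
    haveI := Fact.mk hr
    have hnorm : Subgroup.zpowers (g : G) ≤ Subgroup.normalizer (tp r u : Set G) := by
      rw [Subgroup.zpowers_le, Subgroup.mem_normalizer_iff]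
      intro y
      refine ⟨fun hy => h.tp_conj_mem hr hrp hu g.2 hy, fun hy => ?_⟩
      have := h.tp_conj_mem hr hrp hu (inv_mem g.2) hy
      simpa [mul_assoc] using this
    exact sel_of_mem (IsPGroup.to_sup_of_normal_left' (h.isPGroup_tp hr hrp hu)
      (isPGroup_zpowers_of_sel hgs) hnorm)
      (mul_mem (Subgroup.mem_sup_left x.2) (Subgroup.mem_sup_right (Subgroup.mem_zpowers _)))
  have h1 := hcen g g.2 hgout hgs hgr
  have hxr : ((x : G) * g) ^ r ∈ cz u := by
    rw [hprod]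
    exact mul_mem (tp_le r u (SetLike.coe_mem _)) hgr
  have h2 := hcen _ (mul_mem hxN g.2)
    (fun hm => hgout ((Subgroup.mul_mem_cancel_left _ (tp_le r u x.2)).mp hm)) hsel hxr
  rw [hprod] at h2
  exact (Subgroup.mul_mem_cancel_right _ h1).mp h2

/-- No nontrivial `q`-subgroup of the quotient is normalized by an element of order `r`. -/
theorem pair_false {q r : ℕ} (hq : q.Prime) (hqp : q ≠ p) (hr : r.Prime) (hrp : r ≠ p)
    (hqr : q ≠ r) {u : G} (hu : NC p u) (E : Subgroup (Wq u)) (hE : IsPGroup q E) (hE1 : E ≠ ⊥)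
    {w : Wq u} (hw : orderOf w = r) (hnorm : ∀ e ∈ E, w * e * w⁻¹ ∈ E) : False := by
  classical
  haveI := Fact.mk hq
  haveI := Fact.mk hr
  have hwr : w ^ r = 1 := hw ▸ pow_orderOf_eq_one w
  have hw1 : w ≠ 1 := fun e => hr.ne_one (by rw [← hw, e, orderOf_one])
  have hwsel : SEl r w := ⟨1, by rwa [pow_one]⟩
  have hrho : Rho G r := by
    obtain ⟨g, hgs, hg⟩ := h.exists_lift_wq hr hwsel
    exact ⟨g, fun hc => hw1 (hg ▸ wq_eq_one.mpr (center_le_cz u hc)), hgs⟩
  by_cases hc : ∃ e ∈ E, e ≠ 1 ∧ Commute e w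
  · obtain ⟨e, he, he1, hew⟩ := hc
    exact h.commute_wq_false hq hqp hr hrp hqr hu (sel_of_mem hE he) he1 hwsel hw1 hew
  push Not at hc
  obtain ⟨e₀, he₀, he₀1⟩ := (Subgroup.bot_or_exists_ne_one E).resolve_left hE1
  letI := h.tpCommGroup hr hrp hu
  haveI : Fintype E := Fintype.ofFinite E
  let Z : Subgroup (tp r u) := (Subgroup.center G).subgroupOf (tp r u)
  have hfree : ∀ j, 0 < j → j < r → ∀ e ∈ E, w ^ j * e = e * w ^ j → e = 1 := by
    intro j hj hjr e he hce
    by_contra he1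
    refine hc e he he1 ?_
    obtain ⟨i, hi⟩ := exists_pow_eq_self_of_coprime (x := w) (n := j)
      (by rw [hw]; exact (hr.coprime_iff_not_dvd.mpr (Nat.not_dvd_of_pos_of_lt hj hjr)).symm)
    rw [← hi]
    exact (Commute.pow_left hce i).symm
  have hfix : ∀ x : tp r u, (∀ e ∈ E, h.wAct hr hrp hu e x = x) → x ∈ Z := by
    intro x hx
    exact h.wAct_fpf hq hr hrp hqr hu (sel_of_mem hE he₀) he₀1
      (by rw [hx e₀ he₀, mul_inv_cancel]; exact one_mem _)
  have hN : ∀ e ∈ E, ∀ x : tp r u,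
      (∏ j ∈ Finset.range r, h.wAct hr hrp hu ((e * w * e⁻¹) ^ j) x) ∈ Z := by
    intro e _ x
    refine h.norm_mem_center hr hrp hu ?_ ?_ x
    · rw [conj_pow, hwr, mul_one, mul_inv_cancel]
    · simp [hw1]
  obtain ⟨y, hy, hyc⟩ := h.exists_mem_tp hr hrp hrho hu
  have hmain := pow_card_mem (h.wAct hr hrp hu) Z E hr.pos hnorm hfree hfix hN ⟨y, hy⟩
  obtain ⟨k, hk⟩ := IsPGroup.iff_card.mp hE
  rw [Fintype.card_eq_nat_card, hk] at hmain
  obtain ⟨a, ha⟩ := ((h.mem_tp hr hrp hu).mp hy).2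
  obtain ⟨i, hi⟩ := exists_pow_eq_self_of_coprime (x := y) (n := q ^ k)
    (Nat.Coprime.coprime_dvd_right (orderOf_dvd_of_pow_eq_one ha)
      (Nat.Coprime.pow k a ((Nat.coprime_primes hq hr).mpr hqr)))
  refine hyc (hi ▸ pow_mem ?_ i)
  exact hmain

end Cfg

end CfsgLib.TwoPReg
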