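import Cfsg.Agent.Lib.TwoPReg.Main

/-!
The configuration passes to the quotient by `O_p(G)`, hence does not exist.
-/

set_option autoImplicit false
set_option linter.style.haveILetI false
set_option linter.unusedSectionVars false

open scoped Pointwise

namespace CfsgLib.TwoPReg

variable {G : Type*} [Group G] [Finite G] {p : ℕ}

theorem exists_reg_lift {M : Type*} [Group M] (f : G →* M) (hp : p.Prime) {g : G}
    (hc : (orderOf (f g)).Coprime p) : ∃ u : G, Reg p u ∧ f u = f g := by
  haveI := Fact.mk hp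
  obtain ⟨a, m, -, -, hcop, -⟩ := CfsgLib.Transfer.exists_pow_coprime_part (p := p) g
  obtain ⟨i, hi⟩ := exists_pow_eq_self_of_coprime (x := f g) (n := p ^ a) (hc.symm.pow_left a)
  refine ⟨(g ^ p ^ a) ^ i, ?_, by rw [map_pow, map_pow, hi]⟩
  exact Nat.Coprime.coprime_dvd_left (orderOf_pow_dvd i) hcop

/-- Centralizers of regular elements modulo a normal `p`-subgroup. -/
theorem cz_map_eq (hp : p.Prime) (O : Subgroup G) [O.Normal] (hO : IsPGroup p O) {u : G}
    (hu : Reg p u) : cz (QuotientGroup.mk' O u) = (cz u).map (QuotientGroup.mk' O) := by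
  haveI := Fact.mk hp
  refine le_antisymm ?_ ?_
  · intro c hc
    obtain ⟨g, rfl⟩ := QuotientGroup.mk'_surjective O c
    obtain ⟨k, hk⟩ := IsPGroup.iff_card.mp hO
    set v := g * u * g⁻¹ with hv
    have hfv : QuotientGroup.mk' O v = QuotientGroup.mk' O u := by
      rw [hv, map_mul, map_mul, map_inv, mem_cz.mp hc, mul_inv_cancel_right]
    have hcop : ∀ w : G, Reg p w → (Nat.card O).Coprime (Nat.card (Subgroup.zpowers w)) := by
      intro w hw
      rw [Nat.card_zpowers, hk]
      exact (Nat.Coprime.pow_left k hw.symm)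
    have hvr : Reg p v := by
      show (orderOf (g * u * g⁻¹)).Coprime p
      rw [CfsgLib.Transfer.orderOf_conj]
      exact hu
    have hsame : O ⊔ Subgroup.zpowers u = O ⊔ Subgroup.zpowers v := by
      have h1 : u⁻¹ * v ∈ O := by
        rw [← QuotientGroup.eq]
        exact hfv.symm
      refine le_antisymm (sup_le le_sup_left (Subgroup.zpowers_le.mpr ?_))
        (sup_le le_sup_left (Subgroup.zpowers_le.mpr ?_))
      · rw [show u = v * (u⁻¹ * v)⁻¹ by group]
        exact mul_mem (Subgroup.mem_sup_right (Subgroup.mem_zpowers _))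
          (inv_mem (Subgroup.mem_sup_left h1))
      · rw [show v = u * (u⁻¹ * v) by group]
        exact mul_mem (Subgroup.mem_sup_right (Subgroup.mem_zpowers _))
          (Subgroup.mem_sup_left h1)
    obtain ⟨o, ho, hoe⟩ := CfsgLib.Coprime.exists_conj_of_coprime (N := O)
      (H := Subgroup.zpowers u) (K := Subgroup.zpowers v) Subgroup.le_normalizer_of_normal
      (hcop u hu) (hcop v hvr) hsame (Or.inr inferInstance)
    have h1 : o * u * o⁻¹ * v⁻¹ ∈ Subgroup.zpowers v := by
      refine mul_mem ?_ (inv_mem (Subgroup.mem_zpowers v))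
      rw [← hoe]
      exact CfsgLib.Coprime.conj_mem_conj_smul (Subgroup.mem_zpowers u)
    have h2 : o * u * o⁻¹ * v⁻¹ ∈ O := by
      rw [← QuotientGroup.eq_one_iff, ← QuotientGroup.mk'_apply]
      have ho1 : QuotientGroup.mk' O o = 1 := (QuotientGroup.eq_one_iff o).mpr ho
      rw [map_mul, map_mul, map_mul, map_inv, map_inv, hfv, ho1, one_mul, inv_one, mul_one,
        mul_inv_cancel]
    have h3 : o * u * o⁻¹ * v⁻¹ ∈ O ⊓ Subgroup.zpowers v := ⟨h2, h1⟩
    rw [CfsgLib.Coprime.inf_eq_bot_of_coprime_card (hcop v hvr), Subgroup.mem_bot,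
      mul_inv_eq_one] at h3
    refine ⟨o⁻¹ * g, ?_, ?_⟩
    · rw [SetLike.mem_coe, mem_cz]
      calc o⁻¹ * g * u = o⁻¹ * v * g := by rw [hv]; group
        _ = u * (o⁻¹ * g) := by rw [← h3]; group
    · rw [map_mul, map_inv, show QuotientGroup.mk' O o = 1 from (QuotientGroup.eq_one_iff o).mpr ho,
        inv_one, one_mul]
  · rintro _ ⟨g, hg, rfl⟩
    rw [mem_cz, ← map_mul, ← map_mul, mem_cz.mp hg]

theorem factorization_card_map {s : ℕ} (hs : s.Prime) (hp : p.Prime) (hsp : s ≠ p) (O : Subgroup G)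
    [O.Normal] (hO : IsPGroup p O) (H : Subgroup G) :
    (Nat.card (H.map (QuotientGroup.mk' O))).factorization s = (Nat.card H).factorization s := by
  haveI := Fact.mk hp
  have h1 := CfsgLib.Coprime.relIndex_mul_card_inf O H
  have h2 := Subgroup.relIndex_ker (K := H) (QuotientGroup.mk' O)
  rw [QuotientGroup.ker_mk'] at h2
  rw [h2] at h1
  obtain ⟨k, hk⟩ := IsPGroup.iff_card.mp (hO.to_le (inf_le_left : O ⊓ H ≤ O))
  rw [hk] at h1
  rw [← h1, Nat.factorization_mul Nat.card_pos.ne' (pow_ne_zero _ hp.ne_zero)]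
  simp [hp.factorization_pow, Finsupp.single_eq_of_ne hsp]

theorem Cfg.false' (h : Cfg p G) : False := by
  haveI := Fact.mk h.hp
  haveI := CfsgLib.Fitting.pCore_normal (G := G) p
  set O := Cfsg.pCore p G with hOd
  have hO : IsPGroup p O := CfsgLib.Fitting.pCore_isPGroup p
  set f := QuotientGroup.mk' O with hf
  have hsurj : Function.Surjective f := QuotientGroup.mk'_surjective O
  obtain ⟨q, hqS⟩ := h.exists_sig
  -- noncentral elements stay noncentral
  have hnc : ∀ u : G, NC p u → f u ∉ Subgroup.center (G ⧸ O) := by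
    intro u hu hc
    have h1 := (cz_map_eq h.hp O hO hu.1).symm.trans (cz_eq_top.mpr hc)
    have h2 := (dvd_index_iff hqS.1 (cz u)).mp (hqS.2.2 u hu)
    have h3 := factorization_card_map hqS.1 h.hp hqS.2.1 O hO (cz u)
    have h4 := factorization_card_map hqS.1 h.hp hqS.2.1 O hO (⊤ : Subgroup G)
    rw [h1] at h3
    rw [Subgroup.map_top_of_surjective _ hsurj] at h4
    simp only [Subgroup.card_top] at h3 h4
    omega
  have hlift : ∀ c : G ⧸ O, NC p c → ∃ u : G, NC p u ∧ f u = c := by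
    intro c hc
    obtain ⟨g, rfl⟩ := hsurj c
    obtain ⟨u, hu, hue⟩ := exists_reg_lift f h.hp hc.1
    refine ⟨u, ⟨hu, fun hcu => hc.2 ?_⟩, hue⟩
    rw [← hue, Subgroup.mem_center_iff]
    intro d
    obtain ⟨d, rfl⟩ := hsurj d
    rw [← map_mul, ← map_mul, Subgroup.mem_center_iff.mp hcu d]
  have hq : Cfg p (G ⧸ O) := by
    refine ⟨h.hp, ?_, ?_, ?_, ?_⟩
    · intro a b ha hb hab
      obtain ⟨u, hu, rfl⟩ := hlift a ha
      rw [cz_map_eq h.hp O hO hu.1] at hab ⊢
      obtain ⟨v₀, hv₀, rfl⟩ := hab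
      -- a regular preimage inside the centralizer
      obtain ⟨v, hv, hve⟩ := exists_reg_lift (G := cz u) (f.comp (cz u).subtype) h.hp
        (g := ⟨v₀, hv₀⟩) hb.1
      have hve' : f (v : G) = f v₀ := hve
      have hvn : NC p (v : G) := by
        refine ⟨by show (orderOf (v : G)).Coprime p; rw [Subgroup.orderOf_coe]; exact hv,
          fun hc => hb.2 ?_⟩
        rw [← hve', Subgroup.mem_center_iff]
        intro d
        obtain ⟨d, rfl⟩ := hsurj d
        rw [← map_mul, ← map_mul, Subgroup.mem_center_iff.mp hc d]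
      rw [← hve', cz_map_eq h.hp O hO hvn.1, h.comm u v hu hvn v.2]
    · intro a b ha hb s hs hsp
      obtain ⟨u, hu, rfl⟩ := hlift a ha
      obtain ⟨v, hv, rfl⟩ := hlift b hb
      rw [cz_map_eq h.hp O hO hu.1, cz_map_eq h.hp O hO hv.1,
        factorization_card_map hs h.hp hsp O hO, factorization_card_map hs h.hp hsp O hO,
        h.card u v hu hv s hs hsp]
    · obtain ⟨a, b, ha, hb, hap, hbp, hab, ⟨x, hx, hxs⟩, ⟨y, hy, hys⟩⟩ := h.two
      refine ⟨a, b, ha, hb, hap, hbp, hab, ⟨f x, hnc x (h.ncOf ha hap hxs hx), ?_⟩,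
        ⟨f y, hnc y (h.ncOf hb hbp hys hy), ?_⟩⟩
      · obtain ⟨k, hk⟩ := hxs; exact ⟨k, by rw [← map_pow, hk, map_one]⟩
      · obtain ⟨k, hk⟩ := hys; exact ⟨k, by rw [← map_pow, hk, map_one]⟩
    · obtain ⟨u, hu⟩ := h.exists_nc
      refine ⟨q, f u, hqS.1, hqS.2.1, ⟨?_, hnc u hu⟩, ?_⟩
      · exact Nat.Coprime.coprime_dvd_left (orderOf_map_dvd f u) hu.1
      · have h4 := factorization_card_map hqS.1 h.hp hqS.2.1 O hO (⊤ : Subgroup G)
        rw [Subgroup.map_top_of_surjective _ hsurj, Subgroup.card_top, Subgroup.card_top] at h4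
        rw [dvd_index_iff hqS.1, cz_map_eq h.hp O hO hu.1,
          factorization_card_map hqS.1 h.hp hqS.2.1 O hO, h4]
        exact (dvd_index_iff hqS.1 _).mp (hqS.2.2 u hu)
  refine hq.false_of_pCore ?_
  haveI := CfsgLib.Fitting.pCore_normal (G := G ⧸ O) p
  have h1 : (Cfsg.pCore p (G ⧸ O)).comap f ≤ O := by
    refine CfsgLib.Fitting.le_pCore inferInstance ?_
    exact (CfsgLib.Fitting.pCore_isPGroup p).comap_of_ker_isPGroup f
      (by rw [hf, QuotientGroup.ker_mk']; exact hO)
  rw [Subgroup.eq_bot_iff_forall]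
  intro c hc
  obtain ⟨g, rfl⟩ := hsurj c
  exact (QuotientGroup.eq_one_iff g).mpr (h1 hc)

end CfsgLib.TwoPReg
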