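import Cfsg.Agent.Lib.TwoPReg.Pair

/-!
Sylow subgroups of deficient primes and the centralizers they normalize.
-/

set_option autoImplicit false
set_option linter.style.haveILetI false
set_option linter.unusedSectionVars false

namespace CfsgLib.TwoPReg

variable {G : Type*} [Group G] [Finite G] {p : ℕ}

namespace Cfg

variable (h : Cfg p G)
include h

theorem exists_rho_ne (s : ℕ) : ∃ r, r.Prime ∧ r ≠ p ∧ r ≠ s ∧ Rho G r := by
  obtain ⟨q, r, hq, hr, hqp, hrp, hqr, h1, h2⟩ := h.two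
  rcases eq_or_ne r s with rfl | hne
  · exact ⟨q, hq, hqp, hqr, h1⟩
  · exact ⟨r, hr, hrp, hne, h2⟩

theorem exists_nc : ∃ u : G, NC p u := by
  obtain ⟨q, u, -, -, hu, -⟩ := h.defect
  exact ⟨u, hu⟩

theorem not_sylow_le {s : ℕ} (hS : Sig p G s) (Q : Sylow s G) {u : G} (hu : NC p u) :
    ¬ (Q : Subgroup G) ≤ cz u := by
  haveI := Fact.mk hS.1
  exact fun hle => Q.not_dvd_index ((hS.2.2 u hu).trans (Subgroup.index_dvd_of_le hle))

/-- A noncentral element of the second centre of a Sylow subgroup. -/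
theorem exists_central_mod {s : ℕ} (hS : Sig p G s) (Q : Sylow s G) :
    ∃ z ∈ (Q : Subgroup G), NC p z ∧
      ∀ g ∈ (Q : Subgroup G), g * z * g⁻¹ * z⁻¹ ∈ Subgroup.center G := by
  haveI := Fact.mk hS.1
  obtain ⟨u, hu⟩ := h.exists_nc
  set N : Subgroup (Q : Subgroup G) := (Subgroup.center G).subgroupOf (Q : Subgroup G) with hN
  haveI : N.Normal := by rw [hN]; infer_instance
  have hne : ¬ (Q : Subgroup G) ≤ Subgroup.center G := fun hle =>
    h.not_sylow_le hS Q hu (hle.trans (center_le_cz u))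
  haveI : Nontrivial ((Q : Subgroup G) ⧸ N) := by
    obtain ⟨x, hxQ, hxc⟩ := SetLike.not_le_iff_exists.mp hne
    exact ⟨⟨((⟨x, hxQ⟩ : (Q : Subgroup G)) : (Q : Subgroup G) ⧸ N), 1, fun e =>
      hxc (Subgroup.mem_subgroupOf.mp ((QuotientGroup.eq_one_iff _).mp e))⟩⟩
  haveI := (Q.2.to_quotient N).center_nontrivial
  obtain ⟨⟨c, hc⟩, hc1⟩ := exists_ne (1 : Subgroup.center ((Q : Subgroup G) ⧸ N))
  obtain ⟨z, rfl⟩ := QuotientGroup.mk_surjective c
  have hzc : (z : G) ∉ Subgroup.center G := fun hm =>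
    hc1 (Subtype.ext ((QuotientGroup.eq_one_iff z).mpr (Subgroup.mem_subgroupOf.mpr hm)))
  refine ⟨z, z.2, h.ncOf hS.1 hS.2.1 (sel_of_mem Q.2 z.2) hzc, fun g hg => ?_⟩
  have h1 := Subgroup.mem_center_iff.mp hc ((⟨g, hg⟩ : (Q : Subgroup G)) : (Q : Subgroup G) ⧸ N)
  have h2 : ((⟨g, hg⟩ * z * (⟨g, hg⟩ : (Q : Subgroup G))⁻¹ * z⁻¹ : (Q : Subgroup G)) :
      (Q : Subgroup G) ⧸ N) = 1 := by
    rw [QuotientGroup.mk_mul, QuotientGroup.mk_mul, QuotientGroup.mk_mul, QuotientGroup.mk_inv,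
      QuotientGroup.mk_inv, h1, mul_inv_cancel_right, mul_inv_cancel]
  simpa using Subgroup.mem_subgroupOf.mp ((QuotientGroup.eq_one_iff _).mp h2)

theorem sylow_le_normalizer {s : ℕ} (Q : Sylow s G) {z : G} (hz : NC p z)
    (hzQ : ∀ g ∈ (Q : Subgroup G), g * z * g⁻¹ * z⁻¹ ∈ Subgroup.center G) :
    (Q : Subgroup G) ≤ Subgroup.normalizer (cz z : Set G) := by
  intro g hg
  rw [h.mem_normalizer_iff hz]
  have e : g * z * g⁻¹ = g * z * g⁻¹ * z⁻¹ * z := by group
  rw [e]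
  exact mul_mem (center_le_cz z (hzQ g hg)) (self_mem_cz z)

theorem tp_le_sylow {s : ℕ} (hs : s.Prime) (hsp : s ≠ p) (Q : Sylow s G) {z : G} (hz : NC p z)
    (hQ : (Q : Subgroup G) ≤ Subgroup.normalizer (cz z : Set G)) :
    tp s z ≤ (Q : Subgroup G) := by
  haveI := Fact.mk hs
  have hnorm : (Q : Subgroup G) ≤ Subgroup.normalizer (tp s z : Set G) := by
    intro g hg
    rw [Subgroup.mem_normalizer_iff]
    intro y
    refine ⟨fun hy => h.tp_conj_mem hs hsp hz (hQ hg) hy, fun hy => ?_⟩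
    have := h.tp_conj_mem hs hsp hz (inv_mem (hQ hg)) hy
    simpa [mul_assoc] using this
  have h1 := IsPGroup.to_sup_of_normal_left' (h.isPGroup_tp hs hsp hz) Q.2 hnorm
  exact le_sup_left.trans (Q.3 h1 le_sup_right).le

theorem inf_eq_tp {s : ℕ} (hs : s.Prime) (hsp : s ≠ p) (Q : Sylow s G) {z : G} (hz : NC p z)
    (hQ : (Q : Subgroup G) ≤ Subgroup.normalizer (cz z : Set G)) :
    (Q : Subgroup G) ⊓ cz z = tp s z :=
  le_antisymm (fun _ hx => (h.mem_tp hs hsp hz).mpr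
    ⟨(Subgroup.mem_inf.mp hx).2, sel_of_mem Q.2 (Subgroup.mem_inf.mp hx).1⟩)
    (le_inf (h.tp_le_sylow hs hsp Q hz hQ) (tp_le s z))

/-- The free action of a normalizing Sylow subgroup. -/
theorem relIndex_dvd {q r : ℕ} (hq : q.Prime) (hr : r.Prime) (hrp : r ≠ p) (hqr : q ≠ r)
    (Q : Sylow q G) {z : G} (hz : NC p z)
    (hQ : (Q : Subgroup G) ≤ Subgroup.normalizer (cz z : Set G)) :
    (cz z).relIndex (Q : Subgroup G) ∣ (zp G r).relIndex (tp r z) - 1 := by
  classical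
  haveI := Fact.mk hq
  letI := h.tpCommGroup hr hrp hz
  set E : Subgroup (Wq z) :=
    ((Q : Subgroup G).subgroupOf (Subgroup.normalizer (cz z : Set G))).map (wq z) with hE
  have hEp : IsPGroup q E :=
    (Q.2.of_equiv (Subgroup.subgroupOfEquivOfLe hQ).symm).map _
  set Z : Subgroup (tp r z) := (zp G r).subgroupOf (tp r z) with hZ
  let α := h.wAct hr hrp hz
  have hZα : ∀ (e : Wq z) (x : tp r z), x ∈ Z → α e x = x := by
    intro e x hx
    obtain ⟨g, rfl⟩ := QuotientGroup.mk'_surjective _ e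
    refine Subtype.ext ?_
    show (g : G) * x * (g : G)⁻¹ = x
    rw [Subgroup.mem_center_iff.mp (zp_le_center r (Subgroup.mem_subgroupOf.mp hx)) (g : G),
      mul_inv_cancel_right]
  let β : E → (tp r z ⧸ Z) →* (tp r z ⧸ Z) := fun e =>
    QuotientGroup.map Z Z (α (e : Wq z)).toMonoidHom
      (fun x hx => show α (e : Wq z) x ∈ Z by rw [hZα _ x hx]; exact hx)
  have hβ1 : ∀ c, β 1 c = c := by
    intro c
    obtain ⟨x, rfl⟩ := QuotientGroup.mk_surjective c
    show ((α ((1 : E) : Wq z) x : tp r z) : tp r z ⧸ Z) = x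
    rw [Subgroup.coe_one, map_one, MulAut.one_apply]
  have hβm : ∀ e f c, β (e * f) c = β e (β f c) := by
    intro e f c
    obtain ⟨x, rfl⟩ := QuotientGroup.mk_surjective c
    show ((α ((e * f : E) : Wq z) x : tp r z) : tp r z ⧸ Z) =
      ((α (e : Wq z) (α (f : Wq z) x) : tp r z) : tp r z ⧸ Z)
    rw [Subgroup.coe_mul, map_mul, MulAut.mul_apply]
  let X := {c : tp r z ⧸ Z // c ≠ 1}
  letI : MulAction E X :=
    { smul := fun e c => ⟨β e c.1, fun hc => c.2 (by
        rw [← hβ1 c.1, ← inv_mul_cancel e, hβm, hc, map_one])⟩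
      one_smul := fun c => Subtype.ext (hβ1 c.1)
      mul_smul := fun e f c => Subtype.ext (hβm e f c.1) }
  have hstab : ∀ c : X, MulAction.stabilizer E c = ⊥ := by
    intro c
    rw [Subgroup.eq_bot_iff_forall]
    intro e he
    by_contra he1
    obtain ⟨x, hx⟩ := QuotientGroup.mk_surjective c.1
    have hcx : β e c.1 = c.1 := congrArg Subtype.val (MulAction.mem_stabilizer_iff.mp he)
    rw [← hx] at hcx
    have h2 : (α (e : Wq z) x)⁻¹ * x ∈ Z := QuotientGroup.eq.mp hcx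
    have h3 := h.wAct_fpf hq hr hrp hqr hz (sel_of_mem hEp e.2)
      (fun hh => he1 (Subtype.ext hh)) (x := x) (by
        have h4 := inv_mem (zp_le_center r (Subgroup.mem_subgroupOf.mp h2))
        have h5 := (inferInstance : (Subgroup.center G).Normal).conj_mem _ h4 (x : G)
        push_cast at h5
        simpa [mul_assoc] using h5)
    refine c.2 ?_
    rw [← hx, QuotientGroup.eq_one_iff, hZ, Subgroup.mem_subgroupOf, mem_zp]
    exact ⟨h3, ((h.mem_tp hr hrp hz).mp x.2).2⟩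
  have hcard := Nat.card_congr (MulAction.selfEquivOrbitsQuotientProd' (G := E) (X := X)
    (φ := Quotient.out) (fun c => Quotient.out_eq c) hstab)
  rw [Nat.card_prod] at hcard
  have hX : Nat.card X = (zp G r).relIndex (tp r z) - 1 := by
    haveI : Fintype (tp r z ⧸ Z) := Fintype.ofFinite _
    show Nat.card {c : tp r z ⧸ Z // c ≠ 1} = Nat.card (tp r z ⧸ Z) - 1
    rw [Nat.card_eq_fintype_card, Fintype.card_subtype_compl, Fintype.card_subtype_eq,
      Nat.card_eq_fintype_card]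
  have hEcard : Nat.card E = (cz z).relIndex (Q : Subgroup G) := by
    rw [hE, ← Subgroup.relIndex_ker, QuotientGroup.ker_mk', Subgroup.relIndex_subgroupOf hQ]
  exact ⟨_, by rw [← hX, hcard, hEcard, mul_comm]⟩

end Cfg

end CfsgLib.TwoPReg
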